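import Cfsg.Agent.Lib.RootSub.OddPartner.Bruhat
import Mathlib.GroupTheory.QuotientGroup.Basic
import Mathlib.Algebra.BigOperators.Group.Finset.Basic
import Mathlib.Data.Fintype.BigOperators
import Mathlib.SetTheory.Cardinal.Finite
import Mathlib.Algebra.Group.Subgroup.Finite

/-!
# A Frobenius group on `Q / E`

`K` is fixed point free on the elementary group `Q / E`; an element `v` of order three normalizing `K`
without centralizing any of it cannot be fixed point free together with all its translates `k v`: the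
product of all the orbit products gives `x = 1`.
-/

set_option autoImplicit false
set_option linter.style.haveILetI false

namespace CfsgLib.Bender.Suzuki.Eight

open CfsgLib.RootInvol.OddPartner

variable {G : Type*} [Group G] [Finite G] {Q E K : Subgroup G} {t s r : G}

theorem exists_fixed_coset (S : Setting Q E K t s r) (hne : ∃ y ∈ Q, y ∉ E) (hK : Odd (Nat.card K))
    (hK1 : ∃ j ∈ K, j ≠ (1 : G)) (v : G)
    (hvQ : ∀ y ∈ Q, v * y * v⁻¹ ∈ Q) (hv3 : v ^ 3 = 1) (hvK : ∀ k ∈ K, v * k * v⁻¹ ∈ K)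
    (hvc : ∀ k ∈ K, v * k * v⁻¹ = k → k = 1) :
    ∃ k ∈ K, ∃ y ∈ Q, y ∉ E ∧ k * v * y * (k * v)⁻¹ * y⁻¹ ∈ E := by
  classical
  by_contra hno
  push Not at hno
  haveI := Fintype.ofFinite K
  set N := E.subgroupOf Q with hN
  haveI : N.Normal := ⟨fun e he g => by
    rw [hN, Subgroup.mem_subgroupOf] at he ⊢
    have h : (g : G) * e * (g : G)⁻¹ = e := by rw [← (S.e_comm e he g g.2).eq, mul_inv_cancel_right]
    show (g : G) * e * (g : G)⁻¹ ∈ E
    rw [h]; exact he⟩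
  let M := Q ⧸ N
  have hsq : ∀ m : M, m * m = 1 := by
    rintro ⟨y⟩
    exact (QuotientGroup.eq_one_iff _).2 (Subgroup.mem_subgroupOf.2 (S.q_sq y y.2))
  have hinv : ∀ m : M, m⁻¹ = m := fun m => inv_eq_of_mul_eq_one_right (hsq m)
  letI : CommGroup M :=
    { (inferInstance : Group M) with mul_comm := fun m n => by rw [← hinv (m * n), mul_inv_rev, hinv, hinv] }
  let p : G → M := fun x => if h : x ∈ Q then QuotientGroup.mk ⟨x, h⟩ else 1
  have hp : ∀ (x : G) (h : x ∈ Q), p x = QuotientGroup.mk ⟨x, h⟩ := fun x h => dif_pos h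
  have hpm : ∀ x ∈ Q, ∀ y ∈ Q, p (x * y) = p x * p y := fun x hx y hy => by
    rw [hp x hx, hp y hy, hp _ (mul_mem hx hy)]; rfl
  have hp0 : ∀ x ∈ Q, (p x = 1 ↔ x ∈ E) := fun x hx => by
    rw [hp x hx, QuotientGroup.eq_one_iff, hN, Subgroup.mem_subgroupOf]
  have hfix : ∀ g : G, ∀ y ∈ Q, g * y * g⁻¹ ∈ Q → p (g * y * g⁻¹) = p y → g * y * g⁻¹ * y⁻¹ ∈ E := by
    intro g y hy hgy h
    rw [← hp0 _ (mul_mem hgy (inv_mem hy)), hpm _ hgy _ (inv_mem hy), h, ← hpm _ hy _ (inv_mem hy), mul_inv_cancel]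
    exact (hp0 1 (one_mem Q)).2 (one_mem E)
  -- the products over `K`
  have hA : ∀ x ∈ Q, ∏ k : K, p ((k : G) * x * (k : G)⁻¹) = 1 := by
    intro x hx
    obtain ⟨j, hj, hj1⟩ := hK1
    let cj : Q →* Q :=
      { toFun := fun y => ⟨j * y * j⁻¹, S.k_q j hj y y.2⟩
        map_one' := Subtype.ext (by simp)
        map_mul' := fun y z => Subtype.ext (show j * ((y : G) * z) * j⁻¹ = j * y * j⁻¹ * (j * z * j⁻¹) by group) }
    let χ : M →* M := QuotientGroup.map N N cj fun e he => by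
      rw [hN, Subgroup.mem_comap, Subgroup.mem_subgroupOf]
      exact S.k_e j hj _ (Subgroup.mem_subgroupOf.1 he)
    have hχ : ∀ y ∈ Q, χ (p y) = p (j * y * j⁻¹) := fun y hy => by
      rw [hp y hy, hp _ (S.k_q j hj y hy)]; rfl
    obtain ⟨⟨z, hz⟩, hzm⟩ := QuotientGroup.mk_surjective (∏ k : K, p ((k : G) * x * (k : G)⁻¹))
    have hz' : p z = ∏ k : K, p ((k : G) * x * (k : G)⁻¹) := (hp z hz).trans hzm
    have h1 : χ (p z) = p z := by
      rw [hz', map_prod]
      refine Fintype.prod_equiv (Equiv.mulLeft ⟨j, hj⟩) _ _ fun k => ?_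
      rw [hχ _ (S.k_q k k.2 x hx)]
      show p (j * ((k : G) * x * (k : G)⁻¹) * j⁻¹) = p ((j * (k : G)) * x * (j * (k : G))⁻¹)
      rw [show j * ((k : G) * x * (k : G)⁻¹) * j⁻¹ = (j * (k : G)) * x * (j * (k : G))⁻¹ by group]
    rw [hχ z hz] at h1
    rw [← hz']
    exact (hp0 z hz).2 (S.fpf j hj hj1 z hz (hfix j z hz (S.k_q j hj z hz) h1))
  -- `k v` has order three
  have hcube : ∀ k ∈ K, (k * v) ^ 3 = 1 := by
    intro k hk
    have h3 : v * v * v = 1 := by rw [← hv3, pow_succ, pow_two]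
    set k₁ := v * k * v⁻¹ with hk1
    set k₂ := v * k₁ * v⁻¹ with hk2
    have hk1m : k₁ ∈ K := hvK k hk
    have hk2m : k₂ ∈ K := hvK _ hk1m
    have e : (k * v) ^ 3 = k * k₁ * k₂ * (v * v * v) := by
      rw [hk2, hk1, pow_succ, pow_two]; group
    have hk3 : v * k₂ * v⁻¹ = k := by
      calc v * k₂ * v⁻¹ = (v * v * v) * k * (v * v * v)⁻¹ := by rw [hk2, hk1]; group
        _ = k := by rw [h3]; group
    rw [e, h3, mul_one]
    refine hvc _ (mul_mem (mul_mem hk hk1m) hk2m) ?_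
    calc v * (k * k₁ * k₂) * v⁻¹ = v * k * v⁻¹ * (v * k₁ * v⁻¹) * (v * k₂ * v⁻¹) := by group
      _ = k₁ * k₂ * k := by rw [← hk1, ← hk2, hk3]
      _ = k * k₁ * k₂ := by
          exact (S.k_comm _ (mul_mem hk1m hk2m) k hk).eq.trans (mul_assoc _ _ _).symm
  -- the orbit products
  have hQg : ∀ k ∈ K, ∀ y ∈ Q, k * v * y * (k * v)⁻¹ ∈ Q := fun k hk y hy => by
    rw [show k * v * y * (k * v)⁻¹ = k * (v * y * v⁻¹) * k⁻¹ by group]
    exact S.k_q k hk _ (hvQ y hy)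
  have horb : ∀ k ∈ K, ∀ x ∈ Q,
      p x * p (k * v * x * (k * v)⁻¹) * p (k * v * (k * v * x * (k * v)⁻¹) * (k * v)⁻¹) = 1 := by
    intro k hk x hx
    set g := k * v with hg
    have h1 := hQg k hk x hx
    have h2 := hQg k hk _ h1
    rw [← hg] at h1 h2
    rw [← hpm x hx _ h1, ← hpm _ (mul_mem hx h1) _ h2]
    set u := x * (g * x * g⁻¹) * (g * (g * x * g⁻¹) * g⁻¹) with hu
    have huQ : u ∈ Q := mul_mem (mul_mem hx h1) h2
    refine (hp0 u huQ).2 ?_
    by_contra huE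
    refine hno k hk u huQ huE ?_
    rw [← hg]
    have hgu : g * u * g⁻¹ = (g * x * g⁻¹) * (g * (g * x * g⁻¹) * g⁻¹) * x := by
      have h3 : g * g * g = 1 := by rw [← pow_two, ← pow_succ]; exact hcube k hk
      calc g * u * g⁻¹ = (g * x * g⁻¹) * (g * (g * x * g⁻¹) * g⁻¹) * ((g * g * g) * x * (g * g * g)⁻¹) := by
            rw [hu]; group
        _ = _ := by rw [h3]; group
    refine hfix g u huQ (hQg k hk u huQ) ?_
    rw [hgu, hu, hpm _ (mul_mem h1 h2) _ hx, hpm _ h1 _ h2, hpm _ (mul_mem hx h1) _ h2, hpm _ hx _ h1]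
    exact (mul_comm _ _).trans (mul_assoc _ _ _).symm
  obtain ⟨x, hx, hxE⟩ := hne
  refine hxE ((hp0 x hx).1 ?_)
  have hprod : ∏ k : K, (p x * p ((k : G) * v * x * ((k : G) * v)⁻¹) *
      p ((k : G) * v * ((k : G) * v * x * ((k : G) * v)⁻¹) * ((k : G) * v)⁻¹)) = 1 :=
    Finset.prod_eq_one fun k _ => horb k k.2 x hx
  rw [Finset.prod_mul_distrib, Finset.prod_mul_distrib] at hprod
  have hB : ∏ k : K, p ((k : G) * v * x * ((k : G) * v)⁻¹) = 1 :=
    (Finset.prod_congr rfl fun k _ => by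
      rw [show (k : G) * v * x * ((k : G) * v)⁻¹ = (k : G) * (v * x * v⁻¹) * (k : G)⁻¹ by group]).trans
      (hA _ (hvQ x hx))
  have hC : ∏ k : K, p ((k : G) * v * ((k : G) * v * x * ((k : G) * v)⁻¹) * ((k : G) * v)⁻¹) = 1 := by
    let φ : K → K := fun k => ⟨k * (v * k * v⁻¹), mul_mem k.2 (hvK k k.2)⟩
    have hφ : Function.Bijective φ := by
      refine Finite.injective_iff_bijective.1 fun k k' h => ?_
      have h' : (k : G) * (v * k * v⁻¹) = k' * (v * k' * v⁻¹) := congrArg Subtype.val h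
      set d : G := (k : G)⁻¹ * k' with hd
      have hdK : d ∈ K := mul_mem (inv_mem k.2) k'.2
      have hd1 : v * d * v⁻¹ = d⁻¹ := by
        rw [eq_inv_iff_mul_eq_one, hd, show v * ((k : G)⁻¹ * k') * v⁻¹ * ((k : G)⁻¹ * k') =
          (v * k * v⁻¹)⁻¹ * (v * k' * v⁻¹ * ((k : G)⁻¹ * k')) by group, inv_mul_eq_one]
        calc v * k * v⁻¹ = (k : G)⁻¹ * ((k : G) * (v * k * v⁻¹)) := by group
          _ = (k : G)⁻¹ * k' * (v * k' * v⁻¹) := by rw [h']; group
          _ = _ := (S.k_comm _ hdK _ (hvK _ k'.2)).eq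
      have hd3 : v * (v * d * v⁻¹) * v⁻¹ = d := by
        rw [hd1, show v * d⁻¹ * v⁻¹ = (v * d * v⁻¹)⁻¹ by group, hd1, inv_inv]
      have hdd : d = 1 := by
        refine hvc d hdK ?_
        calc v * d * v⁻¹ = v * (v * (v * d * v⁻¹) * v⁻¹) * v⁻¹ := by rw [hd3]
          _ = (v * v * v) * d * (v * v * v)⁻¹ := by group
          _ = d := by rw [show v * v * v = 1 by rw [← hv3, pow_succ, pow_two]]; group
      exact Subtype.ext (inv_mul_eq_one.1 hdd)
    calc _ = ∏ k : K, p ((φ k : G) * (v * (v * x * v⁻¹) * v⁻¹) * (φ k : G)⁻¹) :=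
          Finset.prod_congr rfl fun k _ => by
            show _ = p ((k : G) * (v * k * v⁻¹) * (v * (v * x * v⁻¹) * v⁻¹) * ((k : G) * (v * k * v⁻¹))⁻¹)
            congr 1; group
      _ = ∏ k : K, p ((k : G) * (v * (v * x * v⁻¹) * v⁻¹) * (k : G)⁻¹) :=
          Fintype.prod_bijective φ hφ _ _ fun k => rfl
      _ = 1 := hA _ (hvQ _ (hvQ x hx))
  rw [hB, hC, mul_one, mul_one, Finset.prod_const, Finset.card_univ, ← Nat.card_eq_fintype_card] at hprod
  obtain ⟨m, hm⟩ := hK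
  rwa [hm, pow_succ, pow_mul, pow_two, hsq, one_pow, one_mul] at hprod

end CfsgLib.Bender.Suzuki.Eight
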