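import Mathlib.GroupTheory.Sylow
import Mathlib.GroupTheory.Subgroup.Centralizer
import Mathlib.GroupTheory.SpecificGroups.Cyclic
import Mathlib.GroupTheory.GroupAction.Quotient
import Mathlib.Tactic.NormNum.Prime

/-!
# No group of degree 513 with a small two point stabilizer

For `q = 8` step B needs an element of order three fixing a line. Without one the two point stabilizer `D`
has order `7` or `21`; then the Sylow count for 19 gives more derangements than the fixed point count allows.
-/

set_option autoImplicit false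
set_option linter.style.haveILetI false

namespace CfsgLib.Bender.Suzuki.Eight

open MulAction Finset

variable {G Ω : Type*} [Group G] [MulAction G Ω]

theorem card_fixedBy_conj (g h : G) :
    Nat.card (fixedBy Ω (h * g * h⁻¹)) = Nat.card (fixedBy Ω g) :=
  Nat.card_congr
    { toFun := fun c => ⟨h⁻¹ • (c : Ω), by
        have := c.2
        rw [MulAction.mem_fixedBy, mul_smul, mul_smul] at this
        rw [MulAction.mem_fixedBy, eq_inv_smul_iff, this]⟩
      invFun := fun c => ⟨h • (c : Ω), by
        rw [MulAction.mem_fixedBy, mul_smul, mul_smul, inv_smul_smul, c.2]⟩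
      left_inv := fun c => by simp
      right_inv := fun c => by simp }

theorem index_bound {k i r d n : ℕ} (hk : k = 1 ∨ k = 19) (hi : i ≤ 4)
    (hr : r = 1 ∨ r = 2 ∨ r = 3 ∨ r = 6 ∨ r = 9 ∨ r = 18) (hd : d = 7 ∨ d = 21) (hn : n % 19 = 1)
    (h : k * 3 ^ i * r * n = 262656 * d) : 96768 ≤ n := by
  interval_cases i <;> rcases hk with rfl | rfl <;> rcases hr with rfl | rfl | rfl | rfl | rfl | rfl <;>
    rcases hd with rfl | rfl <;> norm_num at h <;> omega

/-- **The count.** -/
theorem false_of_count [Finite G] [Finite Ω] {a o : Ω} (hao : a ≠ o) (hΩ : Nat.card Ω = 513)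
    (h2 : ∀ c d : Ω, c ≠ d → ∃ g : G, g • a = c ∧ g • o = d) (D K : Subgroup G)
    (hD : ∀ g, g ∈ D ↔ g • a = a ∧ g • o = o) (hcard : Nat.card D ∣ 21) (hKD : K ≤ D) (hK : Nat.card K = 7)
    (hsmall : ∀ g ∈ D, g ^ 7 = 1 → g ≠ 1 → Nat.card (fixedBy Ω g) < 19)
    (hbig : ∀ g ∈ D, g ∉ K → 4 ≤ Nat.card (fixedBy Ω g)) : False := by
  classical
  haveI := Fintype.ofFinite G
  haveI := Fintype.ofFinite Ω
  -- the order
  have hd : Nat.card D = 7 ∨ Nat.card D = 21 := by
    have h7 : 7 ∣ Nat.card D := hK ▸ Subgroup.card_dvd_of_le hKD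
    rcases h7 with ⟨m, hm⟩
    have hm3 : m ∣ 3 := Nat.dvd_of_mul_dvd_mul_left (by norm_num) (hm ▸ hcard : 7 * m ∣ 7 * 3)
    rcases (Nat.dvd_prime (by norm_num)).1 hm3 with rfl | rfl <;> omega
  have hpairs : ((univ : Finset Ω).offDiag).card = 262656 := by
    rw [offDiag_card, card_univ, ← Nat.card_eq_fintype_card, hΩ]
  have horb : orbit G (a, o) = ↑((univ : Finset Ω).offDiag) := by
    ext ⟨c, d⟩
    simp only [coe_offDiag, Set.mem_offDiag, mem_coe, mem_univ, true_and, mem_orbit_iff, Prod.smul_mk,
      Prod.mk.injEq]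
    exact ⟨fun ⟨g, h1, h1'⟩ e => hao (smul_left_cancel g (by rw [h1, h1', e])), h2 c d⟩
  have hG : Nat.card G = 262656 * Nat.card D := by
    have e : stabilizer G (a, o) = D := by
      ext g
      rw [mem_stabilizer_iff, hD, Prod.smul_mk, Prod.mk.injEq]
    rw [← Nat.card_congr (orbitProdStabilizerEquivGroup G (a, o)), Nat.card_prod, e, horb]
    simp only [Nat.card_eq_fintype_card, Fintype.card_coe, hpairs, Finset.coe_sort_coe]
  have htrans : ∀ c d : Ω, ∃ g : G, g • c = d := by
    have key : ∀ c, ∃ g : G, g • a = c := fun c => by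
      obtain ⟨d, hd'⟩ : ∃ d, c ≠ d := by
        by_cases h : c = a
        · exact ⟨o, h ▸ hao⟩
        · exact ⟨a, h⟩
      obtain ⟨g, hg, -⟩ := h2 c d hd'
      exact ⟨g, hg⟩
    intro c d
    obtain ⟨g, rfl⟩ := key c
    obtain ⟨g', rfl⟩ := key d
    exact ⟨g' * g⁻¹, by rw [mul_smul, inv_smul_smul]⟩
  haveI : IsPretransitive G Ω := ⟨htrans⟩
  -- an element of order 19 fixes no point
  haveI : Fact (Nat.Prime 19) := ⟨by norm_num⟩
  have hfree : ∀ x : G, orderOf x = 19 → ∀ c : Ω, x • c ≠ c := by
    intro x hx c hc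
    have h1 := Nat.card_congr (orbitProdStabilizerEquivGroup G c)
    rw [Nat.card_prod, orbit_eq_univ, Nat.card_congr (Equiv.Set.univ Ω), hΩ, hG] at h1
    have h3 : orderOf x ∣ Nat.card (stabilizer G c) := Subgroup.orderOf_dvd_natCard _ hc
    rw [hx] at h3
    rcases hd with h | h <;> rw [h] at h1 <;> omega
  -- 19 divides the order once
  obtain ⟨P⟩ : Nonempty (Sylow 19 G) := inferInstance
  have hP : Nat.card (P : Subgroup G) = 19 := by
    obtain ⟨k, hk⟩ := P.2.exists_card_eq
    have hdvd := Subgroup.card_subgroup_dvd_card (P : Subgroup G)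
    rcases k with _ | _ | k
    · exfalso
      apply P.not_dvd_index
      have := (P : Subgroup G).card_mul_index
      rw [hk, pow_zero, one_mul] at this
      rw [this, hG]
      rcases hd with h | h <;> omega
    · rw [hk, pow_one]
    · rw [hk, hG] at hdvd
      have : 19 ^ 2 ∣ 262656 * Nat.card D := (pow_dvd_pow 19 (by omega)).trans hdvd
      rcases hd with h | h <;> rw [h] at this <;> norm_num at this
  obtain ⟨⟨x, hxP⟩, hx'⟩ := exists_prime_orderOf_dvd_card' (G := (P : Subgroup G)) 19 (by rw [hP])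
  have hx : orderOf x = 19 := by rw [← hx', Subgroup.orderOf_mk]
  -- the normalizer
  set N := Subgroup.normalizer ((P : Subgroup G) : Set G)
  set φ := (P : Subgroup G).normalizerMonoidHom
  have hker : ∀ p : ℕ, p.Prime → p = 2 ∨ p = 7 → ¬ p ∣ Nat.card φ.ker := by
    intro p hp hp27 hdiv
    haveI := Fact.mk hp
    obtain ⟨⟨⟨u, huN⟩, huk⟩, hu'⟩ := exists_prime_orderOf_dvd_card' (G := φ.ker) p hdiv
    rw [Subgroup.orderOf_mk, Subgroup.orderOf_mk] at hu'
    rw [show φ.ker = _ from (P : Subgroup G).normalizerMonoidHom_ker, Subgroup.mem_subgroupOf,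
      Subgroup.mem_centralizer_iff] at huk
    have hcomm : Commute x u := huk x hxP
    have hug : IsPGroup p (Subgroup.zpowers u) :=
      IsPGroup.of_card (n := 1) (by rw [Nat.card_zpowers, hu', pow_one])
    obtain ⟨c, hc⟩ := hug.nonempty_fixed_point_of_prime_not_dvd_card Ω
      (by rw [hΩ]; rcases hp27 with rfl | rfl <;> norm_num)
    have huc : u • c = c := hc ⟨u, Subgroup.mem_zpowers u⟩
    have hfix : ∀ i : ℕ, x ^ i • c ∈ fixedBy Ω u := fun i => by
      rw [mem_fixedBy, smul_smul, ← (hcomm.pow_left i).eq, mul_smul, huc]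
    have h19 : 19 ≤ Nat.card (fixedBy Ω u) := by
      have hinj : Function.Injective (fun i : Fin 19 => (⟨x ^ (i : ℕ) • c, hfix i⟩ : fixedBy Ω u)) := by
        intro i j hij
        have hij' : x ^ (i : ℕ) • c = x ^ (j : ℕ) • c := congrArg Subtype.val hij
        by_contra hne
        wlog hlt : (i : ℕ) < j generalizing i j
        · exact this hij.symm hij'.symm (Ne.symm hne)
            (lt_of_le_of_ne (not_lt.1 hlt) fun e => hne (Fin.ext e.symm))
        have hfixc : x ^ ((j : ℕ) - i) • c = c := by
          apply smul_left_cancel (x ^ (i : ℕ))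
          rw [← mul_smul, ← pow_add, show (i : ℕ) + (j - i) = j by omega, hij']
        refine hfree _ ?_ c hfixc
        rw [orderOf_pow' x (by omega), hx, Nat.Coprime.gcd_eq_one, Nat.div_one]
        exact (Nat.Prime.coprime_iff_not_dvd (by norm_num)).2 fun hh => by
          have := Nat.le_of_dvd (by omega) hh
          omega
      have := Nat.card_le_card_of_injective _ hinj
      rwa [Nat.card_fin] at this
    obtain ⟨h, hha, hho⟩ := h2 c (x • c) (hfree x hx c).symm
    have hmem : h⁻¹ * u * h ∈ D := by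
      rw [hD, mul_smul, mul_smul, hha, huc, mul_smul, mul_smul, hho]
      have := hfix 1
      rw [pow_one, mem_fixedBy] at this
      rw [this]
      exact ⟨by rw [← hha, inv_smul_smul], by rw [← hho, inv_smul_smul]⟩
    have hord : orderOf (h⁻¹ * u * h) = p := by
      rw [← hu']
      simpa using (MulEquiv.orderOf_eq (MulAut.conj h⁻¹) u)
    rcases hp27 with rfl | rfl
    · have := (Subgroup.orderOf_dvd_natCard D hmem).trans hcard
      rw [hord] at this
      norm_num at this
    · have hne : h⁻¹ * u * h ≠ 1 := by rw [ne_eq, ← orderOf_eq_one_iff, hord]; norm_num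
      have := hsmall _ hmem (by rw [← hord, pow_orderOf_eq_one]) hne
      have e := card_fixedBy_conj (Ω := Ω) u h⁻¹
      rw [inv_inv] at e
      omega
  have hrange : Nat.card φ.range ∣ 18 := by
    haveI : IsCyclic (P : Subgroup G) := isCyclic_of_prime_card hP
    have := Subgroup.card_subgroup_dvd_card φ.range
    rwa [IsCyclic.card_mulAut, hP, Nat.totient_prime (by norm_num)] at this
  have hNcard : Nat.card N = Nat.card φ.ker * Nat.card φ.range := by
    rw [← φ.ker.card_mul_index, Subgroup.index_ker]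
  have hN : Nat.card N * N.index = 262656 * Nat.card D := by rw [N.card_mul_index, hG]
  have hmod : Nat.card (Sylow 19 G) ≡ 1 [MOD 19] := card_sylow_modEq_one 19 G
  rw [P.card_eq_index_normalizer] at hmod
  have hn : 96768 ≤ N.index := by
    have hk1 : Nat.card φ.ker ∣ 19 * 81 := by
      have hk : Nat.card φ.ker ∣ (2 ^ 9 * 7) * (19 * 81) := by
        refine (dvd_of_mul_right_eq _ hNcard.symm).trans ((dvd_of_mul_right_eq _ hN).trans ?_)
        rcases hd with h | h <;> rw [h] <;> norm_num
      refine (Nat.Coprime.dvd_of_dvd_mul_left ?_ hk)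
      refine Nat.Coprime.mul_right (Nat.Coprime.pow_right _ ?_) ?_
      · exact ((Nat.Prime.coprime_iff_not_dvd (by norm_num)).2 (hker 2 (by norm_num) (Or.inl rfl))).symm
      · exact ((Nat.Prime.coprime_iff_not_dvd (by norm_num)).2 (hker 7 (by norm_num) (Or.inr rfl))).symm
    obtain ⟨k₁, k₂, hk1', hk2', hkk⟩ := Nat.dvd_mul.1 hk1
    obtain ⟨i, hi, rfl⟩ := (Nat.dvd_prime_pow (p := 3) (by norm_num) (m := 4)).1 hk2'
    have hr := Nat.mem_divisors.2 ⟨hrange, show (18 : ℕ) ≠ 0 by norm_num⟩
    rw [show Nat.divisors 18 = {1, 2, 3, 6, 9, 18} by decide] at hr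
    simp only [mem_insert, mem_singleton] at hr
    rw [hNcard, ← hkk] at hN
    exact index_bound ((Nat.dvd_prime (by norm_num : Nat.Prime 19)).1 hk1') hi hr hd hmod hN
  -- the derangements
  set f : G → ℕ := fun g => (univ.filter fun c : Ω => g • c = c).card with hf
  have hfcard : ∀ g, f g = Nat.card (fixedBy Ω g) := fun g => by
    rw [Nat.card_eq_fintype_card]
    exact (Fintype.card_of_subtype _ (fun c => by simp)).symm
  have hzero : 18 * 96768 ≤ (univ.filter fun g : G => f g = 0).card := by
    have hcardS : ∀ S : Sylow 19 G, Nat.card (S : Subgroup G) = 19 := fun S => by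
      exact ((S.card_eq_multiplicity).trans (P.card_eq_multiplicity).symm).trans hP
    have hordS : ∀ (S : Sylow 19 G) (y : (S : Subgroup G)), y ≠ 1 → orderOf (y : G) = 19 := fun S y hy => by
      rw [Subgroup.orderOf_coe]
      rcases (Nat.dvd_prime (by norm_num : Nat.Prime 19)).1 ((orderOf_dvd_natCard y).trans (hcardS S).dvd) with
        h | h
      · exact absurd (orderOf_eq_one_iff.1 h) hy
      · exact h
    let F : (Σ S : Sylow 19 G, {y : (S : Subgroup G) // y ≠ 1}) → {g : G // f g = 0} := fun s =>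
      ⟨(s.2.1 : G), by
        rw [hf, Finset.card_eq_zero, filter_eq_empty_iff]
        exact fun c _ => hfree _ (hordS s.1 s.2.1 s.2.2) c⟩
    have hF : Function.Injective F := by
      rintro ⟨S, y, hy⟩ ⟨S', y', hy'⟩ h
      have h' : (y : G) = (y' : G) := congrArg Subtype.val h
      have hz : ∀ (T : Sylow 19 G) (z : (T : Subgroup G)), z ≠ 1 → Subgroup.zpowers (z : G) = T := fun T z hz =>
        Subgroup.eq_of_le_of_card_ge (Subgroup.zpowers_le.2 z.2)
          (by rw [Nat.card_zpowers, hordS T z hz, hcardS])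
      obtain rfl : S = S' := Sylow.ext (by rw [← hz S y hy, ← hz S' y' hy', h'])
      obtain rfl : y = y' := Subtype.ext h'
      rfl
    have hle := Nat.card_le_card_of_injective F hF
    rw [Nat.card_sigma, Nat.card_eq_fintype_card (α := {g : G // f g = 0}), Fintype.card_subtype] at hle
    have hone : ∀ S : Sylow 19 G, Nat.card {y : (S : Subgroup G) // y ≠ 1} = 18 := fun S => by
      rw [Nat.card_eq_fintype_card, Fintype.card_subtype_compl, Fintype.card_subtype_eq,
        ← Nat.card_eq_fintype_card, hcardS]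
    simp only [hone, sum_const, smul_eq_mul, card_univ] at hle
    rw [← Nat.card_eq_fintype_card, P.card_eq_index_normalizer] at hle
    exact le_trans (le_trans (Nat.mul_le_mul_left 18 hn) (le_of_eq (mul_comm _ _))) hle
  -- Burnside
  have hburn : ∑ g : G, (f g - 1) = (univ.filter fun g : G => f g = 0).card := by
    have hsum : ∑ g : G, f g = Fintype.card G := by
      have hb := sum_card_fixedBy_eq_card_orbits_mul_card_group G Ω
      haveI : Subsingleton (Quotient (orbitRel G Ω)) := (pretransitive_iff_subsingleton_quotient G Ω).1 inferInstance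
      rw [Fintype.card_eq_one_iff.2 ⟨Quotient.mk'' a, fun q => Subsingleton.elim q _⟩, one_mul] at hb
      rw [← hb]
      exact sum_congr rfl fun g _ => by rw [hfcard, Nat.card_eq_fintype_card]
    have h : ∑ g : G, f g + ∑ g : G, (if f g = 0 then 1 else 0) = ∑ g : G, (f g - 1) + ∑ _g : G, 1 := by
      rw [← sum_add_distrib, ← sum_add_distrib]
      exact sum_congr rfl fun g _ => by split_ifs <;> omega
    rw [sum_const, card_univ, smul_eq_mul, mul_one, hsum, ← card_filter] at h
    omega
  -- pairs
  set w : G → ℕ := fun g => if g = 1 then 0 else if f g < 4 then 2 else 1 with hw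
  have hwconj : ∀ g h : G, w (h * g * h⁻¹) = w g := fun g h => by
    simp only [hw, hfcard, card_fixedBy_conj, conj_eq_one_iff]
  have hDsum : ∑ g ∈ univ.filter (· ∈ D), w g ≤ 26 := by
    have h1 : ∑ g ∈ univ.filter (· ∈ D), w g ≤
        ∑ g ∈ univ.filter (· ∈ D), ((if g ≠ 1 then 1 else 0) + (if g ∈ K ∧ g ≠ 1 then 1 else 0)) := by
      refine sum_le_sum fun g hg => ?_
      rw [mem_filter] at hg
      simp only [hw]
      by_cases g1 : g = 1
      · simp [g1]
      by_cases gK : g ∈ K
      · simp only [g1, gK]; split_ifs <;> simp_all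
      · have : ¬ f g < 4 := by have := hbig g hg.2 gK; rw [← hfcard] at this; omega
        simp [g1, gK, this]
    refine h1.trans ?_
    rw [sum_add_distrib, ← card_filter, ← card_filter]
    have hc1 : ((univ.filter (· ∈ D)).filter fun g => g ≠ 1) = (univ.filter (· ∈ D)).erase 1 := by
      ext g; simp [and_comm]
    have hc2 : ((univ.filter (· ∈ D)).filter fun g => g ∈ K ∧ g ≠ 1) = (univ.filter (· ∈ K)).erase 1 := by
      ext g
      simp only [mem_filter, mem_univ, true_and, mem_erase]
      exact ⟨fun h => ⟨h.2.2, h.2.1⟩, fun h => ⟨hKD h.2, h.2, h.1⟩⟩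
    have hsub : ∀ H : Subgroup G, (univ.filter (· ∈ H)).card = Nat.card H := fun H => by
      rw [Nat.card_eq_fintype_card, Fintype.card_subtype]
    rw [hc1, hc2, card_erase_of_mem (by simp [D.one_mem]), card_erase_of_mem (by simp [K.one_mem]), hsub, hsub, hK]
    rcases hd with h | h <;> omega
  have hdouble : ∑ g : G, w g * (f g * f g - f g) ≤ 262656 * 26 := by
    have e1 : ∀ g : G, w g * (f g * f g - f g) =
        ∑ p ∈ (univ : Finset Ω).offDiag, if g • p = p then w g else 0 := fun g => by
      rw [← sum_filter, sum_const, smul_eq_mul, mul_comm]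
      congr 1
      rw [hf, ← offDiag_card]
      congr 1
      ext ⟨c, d⟩
      simp only [mem_offDiag, mem_filter, mem_univ, true_and, Prod.smul_mk, Prod.mk.injEq]
      tauto
    rw [sum_congr rfl fun g _ => e1 g, sum_comm, ← hpairs, ← smul_eq_mul]
    refine sum_le_card_nsmul _ _ _ fun p hp => le_trans (le_of_eq ?_) hDsum
    obtain ⟨c, d⟩ := p
    rw [mem_offDiag] at hp
    obtain ⟨h, rfl, rfl⟩ := h2 c d hp.2.2
    rw [← sum_filter]
    refine sum_equiv (MulAut.conj h⁻¹).toEquiv (fun g => ?_) (fun g _ => ?_)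
    · simp only [mem_filter, mem_univ, true_and, Prod.smul_mk, Prod.mk.injEq, hD, MulEquiv.toEquiv_eq_coe,
        MulEquiv.coe_toEquiv, MulAut.conj_apply, inv_inv, mul_smul, inv_smul_eq_iff]
    · simp only [MulEquiv.toEquiv_eq_coe, MulEquiv.coe_toEquiv, MulAut.conj_apply, hwconj]
  have hmain : 4 * ∑ g : G, (f g - 1) ≤ 4 * 512 + ∑ g : G, w g * (f g * f g - f g) := by
    have h1 : f 1 = 513 := by
      rw [hf]; simp [← Nat.card_eq_fintype_card, hΩ]
    have hstep : ∀ g : G, 4 * (f g - 1) ≤ (if g = 1 then 4 * 512 else 0) + w g * (f g * f g - f g) := by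
      intro g
      by_cases g1 : g = 1
      · subst g1
        simp [hw, h1]
      · simp only [hw, g1, if_false, zero_add]
        by_cases h4 : f g < 4
        · rw [if_pos h4]
          interval_cases f g <;> norm_num
        · rw [if_neg h4, one_mul, ← Nat.mul_sub_one, Nat.mul_comm 4]
          calc (f g - 1) * 4 ≤ (f g - 1) * f g := Nat.mul_le_mul_left _ (by omega)
            _ = f g * (f g - 1) := mul_comm _ _
    rw [mul_sum]
    refine (sum_le_sum fun g _ => hstep g).trans (le_of_eq ?_)
    rw [sum_add_distrib, sum_ite_eq' univ (1 : G)]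
    simp
  omega

end CfsgLib.Bender.Suzuki.Eight
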