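import Cfsg.Agent.Lib.Bender.Suzuki.Interface
import Cfsg.Agent.Lib.Bender.Suzuki.Field
import Cfsg.Agent.Lib.Bender.Suzuki.WBound.Coset
import Cfsg.Agent.Lib.Bender.Suzuki.WBound.EightCount

/-!
# The pointwise stabilizer of a line for `q = 8`

It contains an element of order three: otherwise it is trivial and the two point stabilizer is `K` or `K : 3`.
-/

set_option autoImplicit false
set_option linter.style.haveILetI false

namespace CfsgLib.Bender.Suzuki

open MulAction CfsgLib.RootSub.Setup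
open scoped Pointwise

universe u v

variable {G : Type u} {Ω : Type v} [Group G] [Finite G] [MulAction G Ω] {a : Ω} {t : G} {Q E K : Subgroup G}
  {s r : G}

namespace Cubic

theorem mem_baseLine_iff (S : Cubic a t Q E K s r) {y : G} (hy : y ∈ Q) :
    y • t • a ∈ baseLine a t E ↔ y ∈ E := by
  refine ⟨fun h => ?_, fun he => Set.mem_insert_of_mem _ ⟨y, he, rfl⟩⟩
  rcases h with h | ⟨e, he, h⟩
  · exfalso
    refine ta_ne S.rank ?_
    rw [← inv_smul_smul y (t • a), h, fix_a S.rank (inv_mem hy)]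
  · obtain rfl : y = e := by
      have h1 : (y⁻¹ * e) • t • a = t • a := by rw [mul_smul, show e • t • a = y • t • a from h, inv_smul_smul]
      exact inv_mul_eq_one.1 (eq_one_of_fix S.rank (mul_mem (inv_mem hy) (S.base.le he)) (ta_ne S.rank) h1)
    exact he

/-- **For `q = 8` an element of order three fixes the base line pointwise.** -/
theorem exists_order_three (S : Cubic a t Q E K s r) (L : LineFacts a t E 3) :
    ∃ w ∈ lineKer a t E, orderOf w = 3 := by
  classical
  haveI := finite_points S.rank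
  haveI : Fact (Nat.Prime 3) := ⟨Nat.prime_three⟩
  haveI : Fact (Nat.Prime 7) := ⟨by norm_num⟩
  by_contra hno
  push Not at hno
  have hS := S.rank
  have hE8 : Nat.card E = 8 := L.card_E
  have hQ : Nat.card Q = 512 := by rw [S.card_Q, hE8]; norm_num
  have hΩ : Nat.card Ω = 513 := by rw [card_points hS, hQ]
  have hs : s ∈ Cfsg.involutionsIn (stabilizer G a : Set G) :=
    ⟨hS.le ((S.mem_E s).1 S.base.s_mem).1, S.base.s_ne, S.base.e_sq s S.base.s_mem⟩
  have hEQ := S.base.le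
  -- `|K| = 7`
  have hKE : ∀ k ∈ K, k * s * k⁻¹ ∈ E ∧ k * s * k⁻¹ ≠ 1 := fun k hk =>
    ⟨S.base.k_e k hk s S.base.s_mem, fun e => S.base.s_ne (by
      calc s = k⁻¹ * (k * s * k⁻¹) * k := by group
        _ = 1 := by rw [e]; group)⟩
  have hKinj : ∀ k ∈ K, ∀ k' ∈ K, k * s * k⁻¹ = k' * s * k'⁻¹ → k = k' := fun k hk k' hk' h => by
    obtain ⟨j, -, hu⟩ := S.base.reg _ (hKE k hk).1 (hKE k hk).2
    rw [hu k ⟨hk, rfl⟩, hu k' ⟨hk', h.symm⟩]
  have hK7 : Nat.card K = 7 := by
    haveI := Fintype.ofFinite E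
    let φ : K → {e : E // e ≠ 1} := fun k =>
      ⟨⟨_, (hKE k k.2).1⟩, fun e => (hKE k k.2).2 (congrArg Subtype.val e)⟩
    have hφ : Function.Bijective φ :=
      ⟨fun k k' h => Subtype.ext (hKinj k k.2 k' k'.2 (congrArg (fun e => (e.1 : G)) h)), fun e => by
        obtain ⟨k, ⟨hk, hk'⟩, -⟩ := S.base.reg e.1 e.1.2 fun h => e.2 (Subtype.ext h)
        exact ⟨⟨k, hk⟩, Subtype.ext (Subtype.ext hk')⟩⟩
    rw [Nat.card_congr (Equiv.ofBijective φ hφ), Nat.card_eq_fintype_card, Fintype.card_subtype_compl,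
      Fintype.card_subtype_eq, ← Nat.card_eq_fintype_card, hE8]
  have hKD : K ≤ pairStab a t := fun k hk => S.mem_pair hk
  have hpow : ∀ k ∈ K, k ≠ 1 → ∀ j ∈ K, ∃ n : ℕ, k ^ n = j := fun k hk hk1 j hj => by
    have hord : orderOf k = 7 := by
      rcases (Nat.dvd_prime (by norm_num : Nat.Prime 7)).1 (hK7 ▸ Subgroup.orderOf_dvd_natCard K hk) with h | h
      · exact absurd (orderOf_eq_one_iff.1 h) hk1
      · exact h
    have hz : Subgroup.zpowers k = K :=
      Subgroup.eq_of_le_of_card_ge (Subgroup.zpowers_le.2 hk) (by rw [Nat.card_zpowers, hord, hK7])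
    rw [← hz, ← (isOfFinOrder_of_finite k).mem_powers_iff_mem_zpowers] at hj
    exact (Submonoid.mem_powers_iff _ _).1 hj
  have hkq : ∀ k ∈ K, k ≠ 1 → ∀ y ∈ Q, k * y * k⁻¹ = y → y = 1 := by
    intro k hk hk1 y hy h
    have hyE : y ∈ E := S.base.fpf k hk hk1 y hy (by rw [h, mul_inv_cancel]; exact one_mem E)
    by_contra hy1
    obtain ⟨j, ⟨hj, rfl⟩, -⟩ := S.base.reg y hyE hy1
    exact hk1 (mul_eq_right.1 (hKinj _ (mul_mem hk hj) j hj (by
      rw [show k * j * s * (k * j)⁻¹ = k * (j * s * j⁻¹) * k⁻¹ by group, h])))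
  -- `D = K V`
  have hdec : ∀ g ∈ pairStab a t, ∃ k ∈ K, k⁻¹ * g ∈ pairStab a t ∧ Commute (k⁻¹ * g) t := by
    intro g hg
    have hne : g * s * g⁻¹ ≠ 1 := fun e => S.base.s_ne (by
      calc s = g⁻¹ * (g * s * g⁻¹) * g := by group
        _ = 1 := by rw [e]; group)
    obtain ⟨k, ⟨hk, hks⟩, -⟩ := S.base.reg _ (S.conj_E hg S.base.s_mem) hne
    have hmem := mul_mem (inv_mem (hKD hk)) hg
    refine ⟨k, hk, hmem, (commute_t_iff hS hs S.base.r_mem S.base.rel hmem).2 ?_⟩
    calc k⁻¹ * g * s = k⁻¹ * (g * s * g⁻¹) * g := by group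
      _ = s * (k⁻¹ * g) := by rw [← hks]; group
  have hKt : ∀ k ∈ K, Commute k t → k = 1 := fun k hk hc => by
    have h1 : k * k = 1 := by
      have h2 : t * k * t = k := by rw [← hc.eq, mul_assoc, S.base.t_sq, mul_one]
      exact mul_eq_one_iff_eq_inv.2 (h2.symm.trans (S.base.inv k hk))
    have h2 := (Subgroup.orderOf_dvd_natCard K hk)
    rw [hK7] at h2
    rcases (Nat.dvd_prime (by norm_num)).1 h2 with h3 | h3
    · exact orderOf_eq_one_iff.1 h3
    · have := Nat.le_of_dvd (by norm_num) (orderOf_dvd_of_pow_eq_one (pow_two k ▸ h1))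
      omega
  -- the pointwise stabilizer is trivial
  have hWD : ∀ w ∈ lineKer a t E, w ∈ pairStab a t := fun w hw => hw.1
  have hWt : ∀ w ∈ lineKer a t E, Commute w t := fun w hw =>
    L.ker_comm w hw t (Subgroup.subset_closure (Or.inr rfl))
  have hWK : ∀ w ∈ lineKer a t E, ∀ k ∈ K, Commute w k := by
    intro w hw k hk
    have h1 := S.conj_K hw.1 (hWt w hw) hk
    have hws : ∀ e ∈ E, w * e * w⁻¹ = e := fun e he => by
      rw [← Subgroup.mem_centralizer_iff.1 hw.2 e he, mul_inv_cancel_right]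
    exact mul_inv_eq_iff_eq_mul.1 (hKinj _ h1 k hk (by
      calc w * k * w⁻¹ * s * (w * k * w⁻¹)⁻¹ = w * (k * (w⁻¹ * s * w) * k⁻¹) * w⁻¹ := by group
        _ = w * (k * s * k⁻¹) * w⁻¹ := by
            rw [show w⁻¹ * s * w = s from (by
              calc w⁻¹ * s * w = w⁻¹ * (w * s * w⁻¹) * w := by rw [hws s S.base.s_mem]
                _ = s := by group)]
        _ = k * s * k⁻¹ := hws _ (hKE k hk).1))
  have hW : ∀ w ∈ lineKer a t E, w = 1 := by
    let H : Subgroup G :=
      { carrier := {g | ∃ k ∈ K, ∃ w ∈ lineKer a t E, g = k * w}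
        one_mem' := ⟨1, one_mem K, 1, one_mem _, (mul_one 1).symm⟩
        mul_mem' := by
          rintro _ _ ⟨k, hk, w, hw, rfl⟩ ⟨k', hk', w', hw', rfl⟩
          refine ⟨k * k', mul_mem hk hk', w * w', mul_mem hw hw', ?_⟩
          rw [mul_assoc, ← mul_assoc w, (hWK w hw k' hk').eq]; group
        inv_mem' := by
          rintro _ ⟨k, hk, w, hw, rfl⟩
          exact ⟨k⁻¹, inv_mem hk, w⁻¹, inv_mem hw, by
            rw [mul_inv_rev, ((hWK w hw k hk).inv_inv).eq]⟩ }
    have hHD : H ≤ pairStab a t := by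
      rintro _ ⟨k, hk, w, hw, rfl⟩
      exact mul_mem (hKD hk) (hWD w hw)
    let T : Set Ω := {c | c ∉ baseLine a t E}
    have hTmem : ∀ h ∈ pairStab a t, ∀ c ∈ T, h • c ∈ T := by
      intro h hh c hc hmem
      apply hc
      have hca : c ≠ a := fun e => hc (by rw [e]; exact Set.mem_insert a _)
      obtain ⟨y, hy, rfl⟩ := exists_Q hS hca
      have hhy := hS.conj_mem h hh.1 y hy
      rw [show h • y • t • a = (h * y * h⁻¹) • t • a by
        rw [mul_smul, mul_smul, mem_stabilizer_iff.1 (inv_mem hh).2], S.mem_baseLine_iff hhy] at hmem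
      rw [S.mem_baseLine_iff hy]
      have := S.conj_E (inv_mem hh) hmem
      rwa [show h⁻¹ * (h * y * h⁻¹) * h⁻¹⁻¹ = y by group] at this
    letI : MulAction H T :=
      { smul := fun h c => ⟨(h : G) • (c : Ω), hTmem h (hHD h.2) c c.2⟩
        one_smul := fun c => Subtype.ext (one_smul G (c : Ω))
        mul_smul := fun g h c => Subtype.ext (mul_smul (g : G) h (c : Ω)) }
    have hfree : ∀ c : T, stabilizer H c = ⊥ := by
      intro c
      rw [Subgroup.eq_bot_iff_forall]
      rintro ⟨_, k, hk, w, hw, rfl⟩ hfix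
      have hfix' : (k * w) • (c : Ω) = c := congrArg Subtype.val hfix
      have hk1 : k = 1 := by
        by_contra hk1
        have hca : (c : Ω) ≠ a := fun e => c.2 (by rw [e]; exact Set.mem_insert a _)
        obtain ⟨y, hy, hyc⟩ := exists_Q hS hca
        have hg : k * w ∈ pairStab a t := mul_mem (hKD hk) (hWD w hw)
        have hgy : k * w * y * (k * w)⁻¹ = y := by
          obtain ⟨_, -, hu⟩ := regular hS (ta_ne hS) (c := c) hca
          have e1 : (k * w * y * (k * w)⁻¹) • t • a = c := by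
            rw [mul_smul, mul_smul, mem_stabilizer_iff.1 (inv_mem hg).2, hyc, hfix']
          exact congrArg Subtype.val ((hu ⟨_, hS.conj_mem _ hg.1 y hy⟩ e1).trans (hu ⟨y, hy⟩ hyc).symm)
        have hyE := S.base.q_sq y hy
        have hwy : w * (y * y) * w⁻¹ = y * y := by
          rw [← Subgroup.mem_centralizer_iff.1 hw.2 _ hyE, mul_inv_cancel_right]
        have hy2 : k * (y * y) * k⁻¹ = y * y :=
          calc k * (y * y) * k⁻¹ = k * (w * (y * y) * w⁻¹) * k⁻¹ := by rw [hwy]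
            _ = (k * w * y * (k * w)⁻¹) * (k * w * y * (k * w)⁻¹) := by group
            _ = y * y := by rw [hgy]
        apply c.2
        rw [← hyc, S.mem_baseLine_iff hy]
        exact S.base.q_invol y hy (hkq k hk hk1 _ (mul_mem hy hy) hy2)
      refine Subtype.ext ?_
      show k * w = 1
      rw [hk1, one_mul] at hfix' ⊢
      by_contra hw1
      exact L.ker_free w hw hw1 _ c.2 hfix'
    have hT : Nat.card T = 504 := by
      haveI := Fintype.ofFinite Ω
      have h1 : (baseLine a t E).ncard = 9 := by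
        rw [L.card_line _ ⟨1, (one_smul G _).symm⟩]; norm_num
      have h2 := Set.ncard_compl (baseLine a t E)
      rw [h1, hΩ] at h2
      exact (Nat.card_coe_set_eq _).trans h2
    have hHdvd : Nat.card H ∣ 504 := by
      rw [← hT, Nat.card_congr (MulAction.selfEquivOrbitsQuotientProd hfree), Nat.card_prod]
      exact Dvd.intro_left _ rfl
    have hHcard : Nat.card H = 7 * Nat.card (lineKer a t E) := by
      rw [← hK7, ← Nat.card_prod]
      refine (Nat.card_congr (Equiv.ofBijective (fun p : K × lineKer a t E =>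
        (⟨(p.1 : G) * p.2, p.1, p.1.2, p.2, p.2.2, rfl⟩ : H)) ⟨?_, ?_⟩)).symm
      · rintro ⟨⟨k, hk⟩, ⟨w, hw⟩⟩ ⟨⟨k', hk'⟩, ⟨w', hw'⟩⟩ h
        have h' : k * w = k' * w' := congrArg Subtype.val h
        have e : k'⁻¹ * k = w' * w⁻¹ := by
          rw [eq_mul_inv_iff_mul_eq, mul_assoc, h', inv_mul_cancel_left]
        have hone : k'⁻¹ * k = 1 := hKt _ (mul_mem (inv_mem hk') hk)
          (e ▸ hWt _ (mul_mem hw' (inv_mem hw)))
        obtain rfl : k' = k := inv_mul_eq_one.1 hone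
        obtain rfl : w = w' := mul_left_cancel h'
        rfl
      · rintro ⟨_, k, hk, w, hw, rfl⟩
        exact ⟨(⟨k, hk⟩, ⟨w, hw⟩), rfl⟩
    have h3 : ¬ 3 ∣ Nat.card (lineKer a t E) := fun h => by
      obtain ⟨⟨w, hw⟩, hw3⟩ := exists_prime_orderOf_dvd_card' 3 h
      exact hno w hw (by rwa [Subgroup.orderOf_mk] at hw3)
    have hodd : Odd (Nat.card (lineKer a t E)) := hS.odd_card.of_dvd_nat (Subgroup.card_dvd_of_le inf_le_left)
    have hone : Nat.card (lineKer a t E) = 1 := by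
      rw [hHcard, show 504 = 7 * 72 from rfl] at hHdvd
      have hd := Nat.dvd_of_mul_dvd_mul_left (by norm_num) hHdvd
      have hr := Nat.mem_divisors.2 ⟨hd, show (72 : ℕ) ≠ 0 by norm_num⟩
      rw [show Nat.divisors 72 = {1, 2, 3, 4, 6, 8, 9, 12, 18, 24, 36, 72} by decide] at hr
      simp only [Finset.mem_insert, Finset.mem_singleton] at hr
      rw [Nat.odd_iff] at hodd
      omega
    intro w hw
    rw [Subgroup.card_eq_one.1 hone, Subgroup.mem_bot] at hw
    exact hw
  -- `V` has order at most three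
  set V : Subgroup G := pairStab a t ⊓ Subgroup.centralizer {t} with hV
  have hVt : ∀ v ∈ V, Commute v t := fun v hv =>
    (Subgroup.mem_centralizer_singleton_iff.1 hv.2)
  have hv3 : ∀ v ∈ V, v ^ 3 = 1 := fun v hv => hW _ (L.v_pow v hv.1 (hVt v hv))
  have hVK : ∀ v ∈ V, ∀ k ∈ K, k ≠ 1 → v * k * v⁻¹ = k → v = 1 := by
    intro v hv k hk hk1 hvk
    refine hW v ⟨hv.1, Subgroup.mem_centralizer_iff.2 fun e he => ?_⟩
    by_cases he1 : e = 1
    · rw [he1, one_mul, mul_one]
    obtain ⟨j, ⟨hj, rfl⟩, -⟩ := S.base.reg e he he1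
    obtain ⟨n, rfl⟩ := hpow k hk hk1 j hj
    have h1 : v * (k ^ n * s * (k ^ n)⁻¹) * v⁻¹ = k ^ n * s * (k ^ n)⁻¹ :=
      calc v * (k ^ n * s * (k ^ n)⁻¹) * v⁻¹ = (v * k * v⁻¹) ^ n * (v * s * v⁻¹) * ((v * k * v⁻¹) ^ n)⁻¹ := by
            rw [conj_pow]; group
        _ = k ^ n * s * (k ^ n)⁻¹ := by rw [hvk, S.conj_s hv.1 (hVt v hv)]
    exact (mul_inv_eq_iff_eq_mul.1 h1).symm
  have hVcard : Nat.card V ∣ 3 := by
    obtain ⟨F, _, _, _, C, hC⟩ := S.exists_efield
    have hf : C.f = 3 := Nat.pow_right_injective le_rfl (C.card_E.symm.trans L.card_E)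
    have hbar : ∀ e ∈ E, C.eps e ^ 2 ^ 3 = C.eps e := fun e he => by
      rw [← hf, ← C.bar_apply, C.eps_fix e he]
    have hred : ∀ (x : F), x ^ 2 ^ 3 = x → ∀ i : ℕ, x ^ 2 ^ i = x ^ 2 ^ (i % 3) := by
      intro x hx i
      have hx' : ∀ q : ℕ, x ^ 2 ^ (3 * q) = x := by
        intro q
        induction q with
        | zero => simp
        | succ q ih => rw [mul_add, mul_one, pow_add, pow_mul, ih, hx]
      conv_lhs => rw [← Nat.div_add_mod i 3, pow_add, pow_mul, hx']
    choose i hi using fun v : V => hC v.1 v.2.1 (hVt v v.2)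
    let Φ : V → Fin 3 := fun v => ⟨i v % 3, Nat.mod_lt _ (by norm_num)⟩
    have hΦ : Function.Injective Φ := fun v v' h => by
      have h' : i v % 3 = i v' % 3 := congrArg Fin.val h
      have hone : (v' : G)⁻¹ * v = 1 := hW _ ⟨(pairStab a t).mul_mem ((pairStab a t).inv_mem v'.2.1) v.2.1,
        Subgroup.mem_centralizer_iff.2 fun e he => by
          have heq : (v : G) * e * (v : G)⁻¹ = (v' : G) * e * (v' : G)⁻¹ :=
            C.eps_inj (S.conj_E v.2.1 he) (S.conj_E v'.2.1 he) (by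
              rw [hi v e he, hi v' e he, hred _ (hbar e he) (i v), hred _ (hbar e he) (i v'), h'])
          calc e * ((v' : G)⁻¹ * v) = (v' : G)⁻¹ * ((v' : G) * e * (v' : G)⁻¹) * v := by group
            _ = (v' : G)⁻¹ * ((v : G) * e * (v : G)⁻¹) * v := by rw [heq]
            _ = (v' : G)⁻¹ * v * e := by group⟩
      exact Subtype.ext (inv_mul_eq_one.1 hone).symm
    have hle := Nat.card_le_card_of_injective Φ hΦ
    rw [Nat.card_fin] at hle
    have hp : IsPGroup 3 V := fun v => ⟨1, Subtype.ext (by simpa using hv3 v v.2)⟩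
    obtain ⟨n, hn⟩ := hp.exists_card_eq
    rcases n with _ | _ | n
    · rw [hn, pow_zero]; exact one_dvd 3
    · rw [hn, pow_one]
    · rw [hn] at hle
      have : 3 ^ 2 ≤ 3 ^ (n + 1 + 1) := Nat.pow_le_pow_right (by norm_num) (by omega)
      omega
  have hD21 : Nat.card (pairStab a t) ∣ 21 := by
    have hcard : Nat.card (pairStab a t) = Nat.card K * Nat.card V := by
      rw [← Nat.card_prod]
      refine (Nat.card_congr (Equiv.ofBijective (fun p : K × V =>
        (⟨(p.1 : G) * p.2, mul_mem (hKD p.1.2) p.2.2.1⟩ : pairStab a t)) ⟨?_, ?_⟩)).symm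
      · rintro ⟨⟨k, hk⟩, ⟨w, hw⟩⟩ ⟨⟨k', hk'⟩, ⟨w', hw'⟩⟩ h
        have h' : k * w = k' * w' := congrArg Subtype.val h
        have e : k'⁻¹ * k = w' * w⁻¹ := by
          rw [eq_mul_inv_iff_mul_eq, mul_assoc, h', inv_mul_cancel_left]
        have hone : k'⁻¹ * k = 1 := hKt _ (mul_mem (inv_mem hk') hk) (e ▸ hVt _ (mul_mem hw' (inv_mem hw)))
        obtain rfl : k' = k := inv_mul_eq_one.1 hone
        obtain rfl : w = w' := mul_left_cancel h'
        rfl
      · rintro ⟨g, hg⟩
        obtain ⟨k, hk, hmem, hc⟩ := hdec g hg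
        exact ⟨(⟨k, hk⟩, ⟨_, hmem, Subgroup.mem_centralizer_singleton_iff.2 hc.eq⟩),
          Subtype.ext (mul_inv_cancel_left k g)⟩
    rw [hcard, hK7, show 21 = 7 * 3 from rfl]
    exact mul_dvd_mul_left 7 hVcard
  -- the fixed points
  have hout : ∀ g ∈ pairStab a t, g ∉ K → ∃ j ∈ K, ∃ v ∈ V, v ≠ 1 ∧ g = j⁻¹ * v * j := by
    intro g hg hgK
    obtain ⟨k, hk, hmem, hc⟩ := hdec g hg
    set v := k⁻¹ * g with hvd
    have hv : v ∈ V := ⟨hmem, Subgroup.mem_centralizer_singleton_iff.2 hc.eq⟩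
    have hv1 : v ≠ 1 := fun e => hgK (by
      rw [hvd, inv_mul_eq_one] at e
      exact e ▸ hk)
    have hvK : ∀ j ∈ K, v * j * v⁻¹ ∈ K := fun j hj => S.conj_K hmem hc hj
    let φ : K → K := fun j => ⟨(j : G)⁻¹ * (v * j * v⁻¹), mul_mem (inv_mem j.2) (hvK j j.2)⟩
    have hφ : Function.Injective φ := fun j j' h => by
      have h' : (j : G)⁻¹ * (v * j * v⁻¹) = (j' : G)⁻¹ * (v * j' * v⁻¹) := congrArg Subtype.val h
      by_contra hne
      refine hv1 (hVK v hv ((j' : G) * (j : G)⁻¹) (mul_mem j'.2 (inv_mem j.2))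
        (fun e => hne (Subtype.ext (mul_inv_eq_one.1 e).symm)) ?_)
      calc v * ((j' : G) * (j : G)⁻¹) * v⁻¹ = j' * ((j' : G)⁻¹ * (v * j' * v⁻¹)) * (v * j * v⁻¹)⁻¹ := by group
        _ = j' * ((j : G)⁻¹ * (v * j * v⁻¹)) * (v * j * v⁻¹)⁻¹ := by rw [h']
        _ = _ := by group
    obtain ⟨j, hj⟩ := Finite.surjective_of_injective hφ ⟨k, hk⟩
    refine ⟨j, j.2, v, hv, hv1, ?_⟩
    have hj' : (j : G)⁻¹ * (v * j * v⁻¹) = k := congrArg Subtype.val hj
    calc g = k * v := by rw [hvd]; group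
      _ = (j : G)⁻¹ * (v * j * v⁻¹) * v := by rw [hj']
      _ = _ := by group
  have hbigV : ∀ v ∈ V, v ≠ 1 → 4 ≤ Nat.card (fixedBy Ω v) := by
    intro v hv hv1
    have hvK : ∀ k ∈ K, v * k * v⁻¹ ∈ K := fun k hk => S.conj_K hv.1 (hVt v hv) hk
    have hne : ∃ y ∈ Q, y ∉ E := by
      by_contra h
      push Not at h
      have := Subgroup.card_le_of_le (show Q ≤ E from h)
      omega
    have hK1 : ∃ j ∈ K, j ≠ (1 : G) := by
      by_contra h
      push Not at h
      rw [(Subgroup.eq_bot_iff_forall K).2 h, Subgroup.card_bot] at hK7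
      omega
    obtain ⟨k, hk, y, hy, hyE, hfix⟩ := Eight.exists_fixed_coset S.base hne (by rw [hK7]; decide) hK1 v
      (fun y hy => hS.conj_mem v hv.1.1 y hy) (hv3 v hv) hvK
      (fun k hk h => by_contra fun hk1 => hv1 (hVK v hv k hk hk1 h))
    -- move it to `v`
    have hkv : k * v ∈ pairStab a t := mul_mem (hKD hk) hv.1
    obtain ⟨j, hj, v', hv', -, e⟩ := hout (k * v) hkv (fun h => hv1 (hKt v (by
      simpa using mul_mem (inv_mem hk) h) (hVt v hv)))
    have hvv : v' = v := by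
      have e2 : v' * v⁻¹ = j * k * (v * j⁻¹ * v⁻¹) :=
        calc v' * v⁻¹ = j * (j⁻¹ * v' * j) * j⁻¹ * v⁻¹ := by group
          _ = j * (k * v) * j⁻¹ * v⁻¹ := by rw [← e]
          _ = _ := by group
      refine mul_inv_eq_one.1 (hKt _ ?_ (hVt _ (mul_mem hv' (inv_mem hv))))
      rw [e2]
      exact mul_mem (mul_mem hj hk) (hvK _ (inv_mem hj))
    rw [hvv] at e
    set y' := j * y * j⁻¹ with hy'
    have hy'Q : y' ∈ Q := S.base.k_q j hj y hy
    have hy'E : y' ∉ E := fun h => hyE (by simpa [hy', mul_assoc] using S.base.k_e j⁻¹ (inv_mem hj) _ h)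
    have hmod : v * y' * v⁻¹ * y'⁻¹ ∈ E := by
      rw [e] at hfix
      have := S.base.k_e j hj _ hfix
      rwa [show j * (j⁻¹ * v * j * y * (j⁻¹ * v * j)⁻¹ * y⁻¹) * j⁻¹ = v * y' * v⁻¹ * y'⁻¹ by
        rw [hy']; group] at this
    -- a fixed element of the coset
    haveI := Fintype.ofFinite E
    let ψ : E → E := fun x => ⟨v * y' * v⁻¹ * y'⁻¹ * (v * x * v⁻¹), mul_mem hmod (S.conj_E hv.1 x.2)⟩
    have hψ : ∀ x : E, y' * (ψ x : G) = v * (y' * x) * v⁻¹ := fun x => by
      show y' * (v * y' * v⁻¹ * y'⁻¹ * (v * x * v⁻¹)) = _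
      rw [← mul_assoc, ← (S.base.e_comm _ hmod y' hy'Q).eq]; group
    have h3 : v * v * v = 1 := by rw [← hv3 v hv, pow_succ, pow_two]
    have hψ3 : ∀ x, ψ (ψ (ψ x)) = x := fun x => Subtype.ext <| mul_left_cancel (a := y') <| by
      rw [hψ, hψ, hψ]
      calc v * (v * (v * (y' * x) * v⁻¹) * v⁻¹) * v⁻¹ = (v * v * v) * (y' * x) * (v * v * v)⁻¹ := by group
        _ = y' * x := by rw [h3]; group
    obtain ⟨x, hx⟩ : ∃ x, ψ x = x := by
      by_contra h
      push Not at h
      let σ : Equiv.Perm E := ⟨ψ, ψ ∘ ψ, fun x => hψ3 x, fun x => hψ3 x⟩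
      have hσ : σ ^ (3 ^ 1) = 1 := Equiv.ext fun x => by
        show (σ ^ 3) x = x
        rw [pow_succ, pow_two]
        exact hψ3 x
      have hcard : ¬ 3 ∣ Fintype.card E := by rw [← Nat.card_eq_fintype_card, hE8]; norm_num
      obtain ⟨x, hx⟩ := Equiv.Perm.exists_fixed_point_of_prime hcard hσ
      exact h x hx
    have hc : v * (y' * x) * v⁻¹ = y' * x := by rw [← hψ, hx]
    have hmem4 : ∀ z ∈ Q, v * z * v⁻¹ = z → z • t • a ∈ fixedBy Ω v := fun z _ hz => by
      rw [mem_fixedBy, ← mul_smul, mul_inv_eq_iff_eq_mul.1 hz, mul_smul, mem_stabilizer_iff.1 hv.1.2]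
    have hvs : v * s * v⁻¹ = s := S.conj_s hv.1 (hVt v hv)
    have hyxE : y' * (x : G) ∉ E := fun h => hy'E (by simpa using mul_mem h (inv_mem x.2))
    have hyxQ : y' * (x : G) ∈ Q := mul_mem hy'Q (hEQ x.2)
    let P : Fin 4 → fixedBy Ω v := ![⟨a, mem_stabilizer_iff.1 hv.1.1⟩, ⟨_, hmem4 1 (one_mem Q) (by group)⟩,
      ⟨_, hmem4 s (hEQ S.base.s_mem) hvs⟩, ⟨_, hmem4 _ hyxQ hc⟩]
    have hP : Function.Injective P := by
      have hinj : ∀ z ∈ Q, ∀ z' ∈ Q, z • t • a = z' • t • a → z = z' := fun z hz z' hz' e => by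
        have e1 : (z'⁻¹ * z) • t • a = t • a := by rw [mul_smul, e, inv_smul_smul]
        exact (inv_mul_eq_one.1 (eq_one_of_fix hS (mul_mem (inv_mem hz') hz) (ta_ne hS) e1)).symm
      have hna : ∀ z ∈ Q, z • t • a ≠ a := fun z hz e => ta_ne hS (by
        rw [← inv_smul_smul z (t • a), e, fix_a hS (inv_mem hz)])
      intro i j h
      have h' : (P i : Ω) = P j := congrArg Subtype.val h
      fin_cases i <;> fin_cases j <;> first
        | rfl
        | (exfalso; simp only [P, Matrix.cons_val_zero, Matrix.cons_val_one, Matrix.cons_val, Fin.zero_eta,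
              Fin.mk_one, Fin.reduceFinMk] at h'
           first
            | exact hna _ (one_mem Q) h'
            | exact hna _ (one_mem Q) h'.symm
            | exact hna _ (hEQ S.base.s_mem) h'
            | exact hna _ (hEQ S.base.s_mem) h'.symm
            | exact hna _ hyxQ h'
            | exact hna _ hyxQ h'.symm
            | exact S.base.s_ne (hinj _ (hEQ S.base.s_mem) 1 (one_mem Q) h')
            | exact S.base.s_ne (hinj _ (hEQ S.base.s_mem) 1 (one_mem Q) h'.symm)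
            | exact hyxE (hinj _ hyxQ 1 (one_mem Q) h' ▸ one_mem E)
            | exact hyxE (hinj _ hyxQ 1 (one_mem Q) h'.symm ▸ one_mem E)
            | exact hyxE (hinj _ hyxQ s (hEQ S.base.s_mem) h' ▸ S.base.s_mem)
            | exact hyxE (hinj _ hyxQ s (hEQ S.base.s_mem) h'.symm ▸ S.base.s_mem))
    simpa using Nat.card_le_card_of_injective P hP
  refine Eight.false_of_count (a := a) (o := t • a) (ta_ne hS).symm hΩ (fun c d hcd => ?_) (pairStab a t) K
    (fun g => Iff.rfl) hD21 hKD hK7 (fun g hg hg7 hg1 => ?_) (fun g hg hgK => ?_)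
  · exact is_two_pretransitive_iff.1 hS.two_transitive (ta_ne hS).symm hcd
  · have hgK : g ∈ K := by
      by_contra hgK
      obtain ⟨j, hj, v, hv, hv1, rfl⟩ := hout g hg hgK
      have e : v ^ 7 = 1 := by
        calc v ^ 7 = j * (j⁻¹ * v * j) ^ 7 * j⁻¹ := by
              rw [← conj_pow]; congr 1; group
          _ = 1 := by rw [hg7]; group
      exact hv1 (by rwa [pow_succ, show 6 = 3 * 2 from rfl, pow_mul, hv3 v hv, one_pow, one_mul] at e)
    have hsub : Subsingleton {c : fixedBy Ω g // (c : Ω) ≠ a} := ⟨fun c c' => by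
      have key : ∀ c : {c : fixedBy Ω g // (c : Ω) ≠ a}, (c.1 : Ω) = t • a := by
        rintro ⟨⟨c, hcf⟩, hc⟩
        obtain ⟨y, hy, rfl⟩ := exists_Q hS hc
        obtain ⟨_, -, hu⟩ := regular hS (ta_ne hS) hc
        have e1 : (g * y * g⁻¹) • t • a = y • t • a := by
          rw [mul_smul, mul_smul, mem_stabilizer_iff.1 (inv_mem hg).2]
          exact hcf
        have e2 : g * y * g⁻¹ = y :=
          congrArg Subtype.val ((hu ⟨_, hS.conj_mem g hg.1 y hy⟩ e1).trans (hu ⟨y, hy⟩ rfl).symm)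
        show y • t • a = t • a
        rw [hkq g hgK hg1 y hy e2, one_smul]
      exact Subtype.ext (Subtype.ext ((key c).trans (key c').symm))⟩
    let Φ : fixedBy Ω g → Fin 2 := fun c => if (c : Ω) = a then 0 else 1
    have hΦ : Function.Injective Φ := fun c c' h => by
      by_cases hc : (c : Ω) = a <;> by_cases hc' : (c' : Ω) = a <;> simp only [Φ, hc, hc', if_true, if_false] at h
      · exact Subtype.ext (hc.trans hc'.symm)
      · exact absurd h (by decide)
      · exact absurd h (by decide)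
      · exact congrArg Subtype.val (hsub.elim ⟨c, hc⟩ ⟨c', hc'⟩)
    have := Nat.card_le_card_of_injective Φ hΦ
    rw [Nat.card_fin] at this
    omega
  · obtain ⟨j, hj, v, hv, hv1, rfl⟩ := hout g hg hgK
    have e := Eight.card_fixedBy_conj (Ω := Ω) v j⁻¹
    rw [inv_inv] at e
    rw [e]
    exact hbigV v hv hv1

end Cubic

end CfsgLib.Bender.Suzuki
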