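import Cfsg.Agent.Lib.Bender.Suzuki.WBound.Lines
import Cfsg.Agent.Lib.Bender.Suzuki.WBound.Eight
import Cfsg.Agent.Lib.Char.Zsigmondy.Main

/-!
# An element of prime order fixing the base line pointwise

Section B: a primitive prime divisor `p` of `2 ^ (2 f) - 1` (`p = 3` for `f = 3`) divides the order of the
pointwise stabilizer of the base line.
-/

set_option autoImplicit false
set_option linter.style.haveILetI false

namespace CfsgLib.Bender.Suzuki

open MulAction CfsgLib.RootSub.Setup
open scoped Pointwise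

universe u v

variable {G : Type u} {Ω : Type v} [Group G] [MulAction G Ω] {a : Ω} {t : G} {Q E K : Subgroup G}
  {s r : G} {f : ℕ}

/-- A choice of an element moving the base line to a line. -/
noncomputable def lineRep (a : Ω) (t : G) (E : Subgroup G) (i : {Λ : Set Ω // IsLine a t E Λ}) : G :=
  i.2.choose

theorem lineRep_spec (a : Ω) (t : G) (E : Subgroup G) (i : {Λ : Set Ω // IsLine a t E Λ}) :
    i.1 = lineRep a t E i • baseLine a t E := i.2.choose_spec

/-- Conjugates of subgroups of the base line. -/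
noncomputable def lineConj (a : Ω) (t : G) (E H : Subgroup G) (i : {Λ : Set Ω // IsLine a t E Λ}) :
    Subgroup G :=
  H.map (MulAut.conj (lineRep a t E i)).toMonoidHom

theorem mem_lineConj {H : Subgroup G} {i : {Λ : Set Ω // IsLine a t E Λ}} {x : G} :
    x ∈ lineConj a t E H i ↔ (lineRep a t E i)⁻¹ * x * lineRep a t E i ∈ H := by
  rw [lineConj, Subgroup.mem_map_equiv, MulAut.conj_symm_apply]

namespace LineFacts

variable (L : LineFacts a t E f)
include L

theorem mem_lineConj_iff {i : {Λ : Set Ω // IsLine a t E Λ}} {g x : G} (hg : i.1 = g • baseLine a t E) :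
    x ∈ lineConj a t E (baseGroup t E) i ↔ g⁻¹ * x * g ∈ baseGroup t E := by
  have key : ∀ g g' : G, g • baseLine a t E = g' • baseLine a t E →
      g⁻¹ * x * g ∈ baseGroup t E → g'⁻¹ * x * g' ∈ baseGroup t E := fun g g' e hx => by
    have h1 : (g'⁻¹ * g) • baseLine a t E = baseLine a t E := by rw [mul_smul, e, inv_smul_smul]
    have h2 := (L.stab_line _ h1).1 _ hx
    rwa [show g'⁻¹ * g * (g⁻¹ * x * g) * (g'⁻¹ * g)⁻¹ = g'⁻¹ * x * g' by group] at h2
  rw [mem_lineConj]
  have e : lineRep a t E i • baseLine a t E = g • baseLine a t E := (lineRep_spec a t E i).symm.trans hg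
  exact ⟨key _ _ e, key _ _ e.symm⟩

theorem odd_line {Λ : Set Ω} (hΛ : IsLine a t E Λ) (hf : f ≠ 0) : Odd Λ.ncard := by
  rw [L.card_line Λ hΛ]
  exact (Nat.even_pow.2 ⟨even_two, hf⟩).add_one

/-- An involution preserving a line fixes one of its points. -/
theorem exists_fixed_mem {u : G} (hu : u * u = 1) {Λ : Set Ω} (hΛ : IsLine a t E Λ) (hf : f ≠ 0)
    (hmap : ∀ c ∈ Λ, u • c ∈ Λ) : ∃ c ∈ Λ, u • c = c := by
  classical
  have hfin : Λ.Finite := Set.finite_of_ncard_pos (by rw [L.card_line Λ hΛ]; exact Nat.succ_pos _)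
  haveI := hfin.fintype
  have h2 : ¬ 2 ∣ Fintype.card Λ := by
    rw [← Nat.card_eq_fintype_card, Nat.card_coe_set_eq, ← even_iff_two_dvd]
    exact Nat.not_even_iff_odd.2 (L.odd_line hΛ hf)
  have hinv : ∀ c : Ω, u • u • c = c := fun c => by rw [← mul_smul, hu, one_smul]
  let σ : Equiv.Perm Λ := ⟨fun c => ⟨u • (c : Ω), hmap c c.2⟩, fun c => ⟨u • (c : Ω), hmap c c.2⟩,
    fun c => Subtype.ext (hinv c), fun c => Subtype.ext (hinv c)⟩
  have hσ : σ ^ (2 ^ 1) = 1 := Equiv.ext fun c => by
    show (σ ^ 2) c = c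
    rw [pow_two]
    exact Subtype.ext (hinv c)
  haveI : Fact (Nat.Prime 2) := ⟨Nat.prime_two⟩
  obtain ⟨c, hc⟩ := Equiv.Perm.exists_fixed_point_of_prime h2 hσ
  exact ⟨c, c.2, congrArg Subtype.val hc⟩

theorem smul_line {i : {Λ : Set Ω // IsLine a t E Λ}} {x : G} (hx : x ∈ lineConj a t E (baseGroup t E) i) :
    x • i.1 = i.1 := by
  have h1 := L.group_line _ (mem_lineConj.1 hx)
  rw [mul_smul, mul_smul, inv_smul_eq_iff] at h1
  rw [lineRep_spec a t E i]
  exact h1

variable (S : Cubic a t Q E K s r)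
include S

theorem f_ne_zero : f ≠ 0 := fun h => by
  have h1 := S.four
  rw [L.card_E, h, pow_zero] at h1
  omega

variable [Finite G]

/-- Section B for a primitive prime. -/
theorem exists_mem_lineKer {p : ℕ} (hp : p.Prime) (h5 : 5 ≤ p) (hd : p ∣ 2 ^ f + 1) (hpf : ¬ p ∣ f) :
    ∃ w ∈ lineKer a t E, orderOf w = p := by
  classical
  haveI := finite_points S.rank
  haveI : Fact p.Prime := ⟨hp⟩
  have hf := L.f_ne_zero S
  have hS := S.rank
  let ι := {Λ : Set Ω // IsLine a t E Λ}
  haveI : Finite ι := inferInstance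
  letI : MulAction G ι :=
    { smul := fun g i => ⟨g • i.1, by obtain ⟨h, e⟩ := i.2; exact ⟨g * h, by rw [e, mul_smul]⟩⟩
      one_smul := fun i => Subtype.ext (one_smul G i.1)
      mul_smul := fun g h i => Subtype.ext (mul_smul g h i.1) }
  let i₀ : ι := ⟨baseLine a t E, 1, (one_smul G _).symm⟩
  have hbase : i₀.1 = (1 : G) • baseLine a t E := (one_smul G _).symm
  have ht : t ∈ baseGroup t E := Subgroup.subset_closure (Or.inr rfl)
  have hL0 : ∀ x, x ∈ baseGroup t E → x ∈ lineConj a t E (baseGroup t E) i₀ := fun x hx =>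
    (L.mem_lineConj_iff hbase).2 (by simpa using hx)
  obtain ⟨x₀, hx₀, hx₀o, hx₀i⟩ := L.torus_exists p hp hd
  have hx₀1 : x₀ ≠ 1 := fun e => hp.ne_one (by rw [← hx₀o, e, orderOf_one])
  -- `x₀` has no fixed point
  have hfix₀ : ∀ c : Ω, x₀ • c ≠ c := fun c => by
    by_cases hc : c ∈ baseLine a t E
    · exact L.torus_free p hp hd x₀ hx₀ hx₀o c hc
    · exact L.free x₀ hx₀ hx₀1 c hc
  -- two involutions in a point stabilizer commute
  have hcomm : ∀ (c : Ω) (u v : G), u * u = 1 → v * v = 1 → u • c = c → v • c = c → Commute u v := by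
    intro c u v hu hv huc hvc
    haveI := hS.two_transitive
    haveI : IsPretransitive G Ω := isPretransitive_of_is_two_pretransitive
    obtain ⟨g, hg⟩ := exists_smul_eq G a c
    have key : ∀ u : G, u * u = 1 → u • c = c → g⁻¹ * u * g ∈ E := by
      intro u hu huc
      have h2 : g⁻¹ * u * g * (g⁻¹ * u * g) = 1 := by
        rw [show g⁻¹ * u * g * (g⁻¹ * u * g) = g⁻¹ * (u * u) * g by group, hu]; group
      refine (S.mem_E _).2 ⟨mem_Q_of_sq hS (mem_stabilizer_iff.2 ?_) h2, h2⟩
      rw [mul_smul, mul_smul, hg, huc, ← hg, inv_smul_smul]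
    have h1 := S.base.e_comm _ (key u hu huc) _ (S.base.le (key v hv hvc))
    have h2 := congrArg (fun z => g * z * g⁻¹) h1.eq
    show u * v = v * u
    simpa [mul_assoc] using h2
  have hdata : LineData (lineConj a t E (baseGroup t E)) (lineConj a t E (lineKer a t E)) t x₀ i₀ p := by
    refine ⟨hp, by omega, S.base.t_sq, fun e => hS.not_mem (e ▸ one_mem _), hL0 t ht, hL0 x₀ hx₀,
      by rw [← hx₀o, pow_orderOf_eq_one], hx₀1, hx₀i, ?_, ?_, ?_, ?_, ?_, ?_, ?_, ?_, ?_, ?_, ?_, ?_⟩
    · -- `p` does not divide the number of lines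
      intro h
      rw [L.card_lines] at h
      have hq : ((2 : ZMod p) ^ f) = -1 := by
        have := (ZMod.natCast_eq_zero_iff _ _).2 hd
        push_cast at this
        exact eq_neg_of_add_eq_zero_left this
      have h' := (ZMod.natCast_eq_zero_iff _ _).2 h
      rw [Nat.cast_mul, Nat.cast_add, Nat.cast_sub (by rw [pow_two]; exact Nat.le_mul_self _)] at h'
      push_cast at h'
      rw [hq] at h'
      norm_num at h'
      have h3 : ((3 : ℕ) : ZMod p) = 0 := by exact_mod_cast h'
      have := Nat.le_of_dvd (by norm_num) ((ZMod.natCast_eq_zero_iff _ _).1 h3)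
      omega
    · intro h
      rw [L.card_lines] at h
      have hq : ((2 : ZMod p) ^ f) = -1 := by
        have := (ZMod.natCast_eq_zero_iff _ _).2 hd
        push_cast at this
        exact eq_neg_of_add_eq_zero_left this
      have h' := congrArg (fun n : ℕ => (n : ZMod p)) h
      rw [ZMod.natCast_mod, Nat.cast_mul, Nat.cast_add, Nat.cast_sub (by rw [pow_two]; exact Nat.le_mul_self _)] at h'
      push_cast at h'
      rw [hq] at h'
      have h2 : ((2 : ℕ) : ZMod p) = 0 := by
        have e : ((-1 : ZMod p)) ^ 2 * ((-1) ^ 2 - (-1) + 1) - 1 = 0 := sub_eq_zero.2 h'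
        ring_nf at e
        exact_mod_cast e
      have := Nat.le_of_dvd (by norm_num) ((ZMod.natCast_eq_zero_iff _ _).1 h2)
      omega
    · intro i
      rw [lineConj, lineConj, ← Nat.card_congr (Subgroup.equivMapOfInjective _ _ (MulEquiv.injective _)).toEquiv,
        ← Nat.card_congr (Subgroup.equivMapOfInjective _ _ (MulEquiv.injective _)).toEquiv]
    · intro i l hl w hw
      have h := (L.ker_comm _ (mem_lineConj.1 hw) _ (mem_lineConj.1 hl)).symm.eq
      have h2 := congrArg (fun z => lineRep a t E i * z * (lineRep a t E i)⁻¹) h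
      show l * w = w * l
      simpa [mul_assoc] using h2
    · intro i g hl hw
      have hw' := mem_lineConj.1 hw
      have h1 := L.disj _ (mem_lineConj.1 hl) hw'.1 (L.ker_comm _ hw' t ht)
      calc g = lineRep a t E i * ((lineRep a t E i)⁻¹ * g * lineRep a t E i) * (lineRep a t E i)⁻¹ := by group
        _ = 1 := by rw [h1]; group
    · -- split
      intro i g hgi hgp
      set h := lineRep a t E i with hh
      have e : g • h • baseLine a t E = h • baseLine a t E := by
        rw [← lineRep_spec a t E i]; exact congrArg Subtype.val hgi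
      have hst : (h⁻¹ * g * h) • baseLine a t E = baseLine a t E := by
        rw [mul_smul, mul_smul, e, inv_smul_smul]
      obtain ⟨-, l, hl, v, hv, hvt, hlv⟩ := L.stab_line _ hst
      have hvbase : v • baseLine a t E = baseLine a t E := by
        have h1 := hst
        rw [hlv, mul_smul, ← L.group_line l hl] at h1
        rw [L.group_line l hl] at h1
        have h2 := congrArg (fun X => l⁻¹ • X) h1
        simp only [inv_smul_smul] at h2
        rw [h2, L.group_line _ (inv_mem hl)]
      have hnorm := (L.stab_line v hvbase).1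
      have hpow : ∀ n : ℕ, ∃ l' ∈ baseGroup t E, (l * v) ^ n = l' * v ^ n := by
        have hnorm' : ∀ n : ℕ, ∀ z ∈ baseGroup t E, v ^ n * z * (v ^ n)⁻¹ ∈ baseGroup t E := by
          intro n
          induction n with
          | zero => intro z hz; simpa using hz
          | succ n ih =>
            intro z hz
            rw [show v ^ (n + 1) * z * (v ^ (n + 1))⁻¹ = v * (v ^ n * z * (v ^ n)⁻¹) * v⁻¹ by rw [pow_succ']; group]
            exact hnorm _ (ih z hz)
        intro n
        induction n with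
        | zero => exact ⟨1, one_mem _, by simp⟩
        | succ n ih =>
          obtain ⟨l', hl', e'⟩ := ih
          refine ⟨l' * (v ^ n * l * (v ^ n)⁻¹), mul_mem hl' (hnorm' n l hl), ?_⟩
          rw [pow_succ, e', pow_succ v]; group
      obtain ⟨l', hl', e'⟩ := hpow p
      have hone : (l * v) ^ p = 1 := by
        rw [← hlv, show h⁻¹ * g * h = h⁻¹ * g * h⁻¹⁻¹ by group, conj_pow, hgp]; group
      have hvp : v ^ p = 1 := by
        refine L.disj _ ?_ (pow_mem hv p) (hvt.pow_left p)
        rw [show v ^ p = l'⁻¹ from (inv_eq_of_mul_eq_one_right (e'.symm.trans hone)).symm]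
        exact inv_mem hl'
      have hvW : v ∈ lineKer a t E := by
        obtain ⟨c, -, hc⟩ := Nat.exists_mul_mod_eq_one_of_coprime (n := f) (k := p)
          ((hp.coprime_iff_not_dvd).2 hpf).symm hp.one_lt
        have e1 : v = (v ^ f) ^ c := by
          rw [← pow_mul, ← Nat.div_add_mod (f * c) p, hc, pow_succ, pow_mul, hvp, one_pow, one_mul]
        rw [e1]
        exact pow_mem (L.v_pow v hv hvt) c
      refine ⟨h * l * h⁻¹, mem_lineConj.2 ?_, h * v * h⁻¹, mem_lineConj.2 ?_, ?_⟩
      · rwa [← hh, show h⁻¹ * (h * l * h⁻¹) * h = l by group]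
      · rwa [← hh, show h⁻¹ * (h * v * h⁻¹) * h = v by group]
      · calc g = h * (h⁻¹ * g * h) * h⁻¹ := by group
          _ = h * (l * v) * h⁻¹ := by rw [hlv]
          _ = _ := by group
    · -- cyclic
      intro i x y hx hy hxp hx1 hyp hxy
      set h := lineRep a t E i with hh
      by_cases hy1 : y = 1
      · exact ⟨0, by rw [hy1, pow_zero]⟩
      have hord : ∀ z : G, z ^ p = 1 → z ≠ 1 → orderOf (h⁻¹ * z * h) = p := fun z hz hz1 =>
        orderOf_eq_prime (by rw [show h⁻¹ * z * h = h⁻¹ * z * h⁻¹⁻¹ by group, conj_pow, hz]; group) fun e =>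
          hz1 (by
            calc z = h * (h⁻¹ * z * h) * h⁻¹ := by group
              _ = 1 := by rw [e]; group)
      have hc : Commute (h⁻¹ * y * h) (h⁻¹ * x * h) := by
        show _ = _
        calc h⁻¹ * y * h * (h⁻¹ * x * h) = h⁻¹ * (y * x) * h := by group
          _ = h⁻¹ * (x * y) * h := by rw [hxy.symm.eq]
          _ = _ := by group
      have h1 := (L.torus_centralizer p hp hd _ (mem_lineConj.1 hx) (hord x hxp hx1) _ (mem_lineConj.1 hy)
        hc).2 (hord y hyp hy1)
      rw [← (isOfFinOrder_of_finite _).mem_powers_iff_mem_zpowers, Submonoid.mem_powers_iff] at h1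
      obtain ⟨n, hn⟩ := h1
      refine ⟨n, ?_⟩
      calc y = h * (h⁻¹ * y * h) * h⁻¹ := by group
        _ = h * (h⁻¹ * x * h⁻¹⁻¹) ^ n * h⁻¹ := by rw [inv_inv, hn]
        _ = x ^ n := by rw [conj_pow]; group
    · -- free
      intro y hyp hyi i hyW
      by_contra hy1
      set h := lineRep a t E i with hh
      have hw := mem_lineConj.1 hyW
      have hw1 : h⁻¹ * y * h ≠ 1 := fun e => hy1 (by
        calc y = h * (h⁻¹ * y * h) * h⁻¹ := by group
          _ = 1 := by rw [e]; group)
      have hfixy : ∀ c : Ω, c ∈ i.1 ↔ y • c = c := by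
        intro c
        rw [lineRep_spec a t E i, ← hh, Set.mem_smul_set_iff_inv_smul_mem]
        constructor
        · intro hc
          have h1 := L.ker_fix _ hw _ hc
          rw [mul_smul, mul_smul, smul_inv_smul] at h1
          exact smul_left_cancel _ h1
        · intro hc
          by_contra hn
          refine L.ker_free _ hw hw1 _ hn ?_
          rw [mul_smul, mul_smul, smul_inv_smul, hc]
      have hyt : y * t = t * y⁻¹ := by
        rw [← hyi, ← mul_assoc, ← mul_assoc, S.base.t_sq, one_mul]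
      obtain ⟨c, hc, hct⟩ := L.exists_fixed_mem S.base.t_sq i.2 hf fun c hc => by
        rw [hfixy] at hc ⊢
        rw [← mul_smul, hyt, mul_smul, inv_smul_eq_iff.2 hc.symm]
      obtain ⟨g, hg, hgm⟩ := L.invol_mem t S.base.t_sq c hct i.1 i.2 hc
      have htL : t ∈ lineConj a t E (baseGroup t E) i := (L.mem_lineConj_iff hg).2 hgm
      have hcm := (L.ker_comm _ hw _ (mem_lineConj.1 htL)).eq
      have h2 := congrArg (fun z => h * z * h⁻¹) hcm
      have h3 : y * t = t * y := by simpa [hh, mul_assoc] using h2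
      have h4 : y * y = 1 := mul_eq_one_iff_eq_inv.2 (mul_left_cancel (h3.symm.trans hyt))
      have := Nat.le_of_dvd (by norm_num) (orderOf_eq_prime hyp hy1 ▸ orderOf_dvd_of_pow_eq_one (pow_two y ▸ h4))
      omega
    · -- line
      intro y hyo hyi
      have hu : t * y * (t * y) = 1 := by
        rw [show t * y * (t * y) = (t * y * t) * y by group, hyi, inv_mul_cancel]
      have ht1 : t ≠ 1 := fun e' => hS.not_mem (by rw [e']; exact one_mem _)
      have hu1 : t * y ≠ 1 := fun e => by
        rw [mul_eq_one_iff_inv_eq, t_inv hS] at e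
        rw [← e, orderOf_eq_prime (p := 2) (by rw [pow_two, S.base.t_sq]) ht1] at hyo
        exact Nat.not_odd_iff_even.2 even_two hyo
      obtain ⟨c, hct, -⟩ := L.invol_one t S.base.t_sq fun e => hS.not_mem (e ▸ one_mem _)
      obtain ⟨c', hcu, -⟩ := L.invol_one (t * y) hu hu1
      obtain ⟨d, hd', hcd⟩ : ∃ d, d ≠ c ∧ (c' ≠ c → d = c') := by
        by_cases h : c' = c
        · by_cases hca : c = a
          · exact ⟨t • a, by rw [hca]; exact ta_ne hS, fun h' => absurd h h'⟩
          · exact ⟨a, Ne.symm hca, fun h' => absurd h h'⟩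
        · exact ⟨c', h, fun _ => rfl⟩
      obtain ⟨Λ, ⟨hΛ, hcΛ, hdΛ⟩, -⟩ := L.line_unique c d hd'.symm
      refine ⟨⟨Λ, hΛ⟩, ?_⟩
      obtain ⟨g, hg, hgt⟩ := L.invol_mem t S.base.t_sq c hct Λ hΛ hcΛ
      have hc'Λ : c' ∈ Λ := by
        by_cases h : c' = c
        · rwa [h]
        · rwa [← hcd h]
      obtain ⟨g', hg', hgu⟩ := L.invol_mem (t * y) hu c' hcu Λ hΛ hc'Λ
      have h1 : t ∈ lineConj a t E (baseGroup t E) ⟨Λ, hΛ⟩ := (L.mem_lineConj_iff hg).2 hgt
      have h2 : t * y ∈ lineConj a t E (baseGroup t E) ⟨Λ, hΛ⟩ := (L.mem_lineConj_iff hg').2 hgu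
      refine ⟨h1, ?_⟩
      have h3 := mul_mem h1 h2
      rwa [← mul_assoc, S.base.t_sq, one_mul] at h3
    · -- meet
      intro i j u v hu hv hnc hui hvi huj hvj
      have hu1 : u ≠ 1 := fun e => hnc (e ▸ Commute.one_left v)
      have hv1 : v ≠ 1 := fun e => hnc (e ▸ Commute.one_right u)
      obtain ⟨cu, hcu, hcu'⟩ := L.invol_one u hu hu1
      obtain ⟨cv, hcv, hcv'⟩ := L.invol_one v hv hv1
      have hmem : ∀ (i : ι) (u : G) (cu : Ω), u * u = 1 → (∀ c, u • c = c → c = cu) →
          u ∈ lineConj a t E (baseGroup t E) i → cu ∈ i.1 := by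
        intro i u cu hu hcu' hui
        obtain ⟨c, hc, hc'⟩ := L.exists_fixed_mem hu i.2 hf fun c hc => by
          rw [← L.smul_line hui]; exact Set.smul_mem_smul_set hc
        exact hcu' c hc' ▸ hc
      have hne : cu ≠ cv := fun e => hnc (hcomm cu u v hu hv hcu (e ▸ hcv))
      obtain ⟨Λ, -, hΛu⟩ := L.line_unique cu cv hne
      exact Subtype.ext ((hΛu i.1 ⟨i.2, hmem i u cu hu hcu' hui, hmem i v cv hv hcv' hvi⟩).trans
        (hΛu j.1 ⟨j.2, hmem j u cu hu hcu' huj, hmem j v cv hv hcv' hvj⟩).symm)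
    · -- inverter
      intro i hπ
      set h := lineRep a t E i with hh
      have hord : orderOf (h⁻¹ * x₀ * h) = p := by
        rw [← hx₀o]
        simpa using MulEquiv.orderOf_eq (MulAut.conj h⁻¹) x₀
      obtain ⟨u, hu, hu2, -, huπ⟩ := L.torus_invert p hp hd _ (mem_lineConj.1 hπ) hord
      refine ⟨h * u * h⁻¹, mem_lineConj.2 (by rwa [← hh, show h⁻¹ * (h * u * h⁻¹) * h = u by group]), ?_, ?_⟩
      · rw [show h * u * h⁻¹ * (h * u * h⁻¹) = h * (u * u) * h⁻¹ by group, hu2]; group
      · calc h * u * h⁻¹ * x₀ * (h * u * h⁻¹) = h * (u * (h⁻¹ * x₀ * h) * u) * h⁻¹ := by group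
          _ = x₀⁻¹ := by rw [huπ, hh]; group
    · -- no involution centralizes `x₀`
      intro u hu hc
      by_contra hu1
      obtain ⟨c, hcu, hcu'⟩ := L.invol_one u hu hu1
      exact hfix₀ c (hcu' _ (show u • x₀ • c = x₀ • c by rw [← mul_smul, hc.eq, mul_smul, hcu]))
  obtain ⟨w, hw, hwo⟩ := hdata.exists_mem_W
  refine ⟨_, mem_lineConj.1 hw, ?_⟩
  rw [← hwo]
  simpa using MulEquiv.orderOf_eq (MulAut.conj (lineRep a t E i₀)⁻¹) w

/-- **The kernel element.** -/
theorem exists_kernel : ∃ p w, Kernel a t E f p w := by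
  have hf2 : 2 ≤ f := by
    have h4 := S.four
    rw [L.card_E] at h4
    by_contra hf
    have : 2 ^ f ≤ 2 ^ 1 := Nat.pow_le_pow_right (by norm_num) (by omega)
    omega
  by_cases hf3 : f = 3
  · subst hf3
    obtain ⟨w, hw, hwo⟩ := S.exists_order_three L
    refine ⟨3, w, ⟨Nat.prime_three, le_rfl, by norm_num, fun j hj hj6 => ?_, fun h => absurd rfl h, hw, hwo⟩⟩
    interval_cases j <;> norm_num
  obtain ⟨p, hp, hdvd, hmin⟩ := CfsgLib.Char.Zsigmondy.exists_prim 2 (2 * f) (by norm_num) (by omega)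
    (fun h => hf3 (by omega)) (fun h => by omega)
  have hprim : ∀ j, 0 < j → j < 2 * f → ¬ p ∣ 2 ^ j - 1 := fun j hj hj2 => hmin j hj hj2
  have hd : p ∣ 2 ^ f + 1 := by
    have e : 2 ^ (2 * f) - 1 = (2 ^ f + 1) * (2 ^ f - 1) := by
      rw [← Nat.sq_sub_sq, one_pow, ← pow_mul, mul_comm f]
    rw [e] at hdvd
    exact (hp.dvd_mul.1 hdvd).resolve_right (hprim f (by omega) (by omega))
  have hle : 2 * f < p := by
    have h1 := Nat.le_of_dvd (by have := hp.two_le; omega)
      (CfsgLib.Char.Zsigmondy.prim_dvd_pred le_rfl (by omega) ⟨hp, hdvd, hmin⟩)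
    omega
  have h5 : 5 ≤ p := by omega
  have hpf : ¬ p ∣ f := fun h => by have := Nat.le_of_dvd (by omega) h; omega
  obtain ⟨w, hw, hwo⟩ := L.exists_mem_lineKer S hp h5 hd hpf
  exact ⟨p, w, ⟨hp, by omega, hd, fun j hj hj2 h => hprim j hj hj2 ((dvd_mul_left p _).trans h),
    fun _ => hprim, hw, hwo⟩⟩

end LineFacts

end CfsgLib.Bender.Suzuki
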