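import Mathlib.GroupTheory.PGroup
import Mathlib.GroupTheory.OrderOfElement
import Mathlib.Tactic.Group

/-!
# An element of prime order fixing a line pointwise

Abstract form of step B of the unitary recognition: `π` of prime order `r` in the group `L i₀` of a line,
inverted by the involution `t` there, centralizes no further element inverted by `t`, so lies in the group
of no other line; as it fixes another line, the pointwise stabilizer of that line has order divisible by `r`.
-/

set_option autoImplicit false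
set_option linter.style.haveILetI false

namespace CfsgLib.Bender.Suzuki

variable {G ι : Type*} [Group G] [MulAction G ι]

/-- Lines with their groups and their pointwise stabilizers, as used for step B. -/
structure LineData (L W : ι → Subgroup G) (t π : G) (i₀ : ι) (r : ℕ) : Prop where
  /-- a prime -/
  prime : r.Prime
  /-- `r ≠ 2` -/
  ne_two : r ≠ 2
  t_sq : t * t = 1
  t_ne : t ≠ 1
  t_mem : t ∈ L i₀
  π_mem : π ∈ L i₀
  π_pow : π ^ r = 1
  π_ne : π ≠ 1
  π_inv : t * π * t = π⁻¹
  /-- the number of lines -/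
  count_zero : ¬ r ∣ Nat.card ι
  count_one : Nat.card ι % r ≠ 1
  /-- conjugate lines -/
  card_W : ∀ i, Nat.card (W i) = Nat.card (W i₀)
  comm : ∀ i, ∀ l ∈ L i, ∀ w ∈ W i, Commute l w
  disj : ∀ i g, g ∈ L i → g ∈ W i → g = 1
  /-- the semilinear part has order prime to `r` -/
  split : ∀ i g, g • i = i → g ^ r = 1 → ∃ l ∈ L i, ∃ w ∈ W i, g = l * w
  /-- cyclic Sylow subgroups for `r` -/
  cyc : ∀ i x y, x ∈ L i → y ∈ L i → x ^ r = 1 → x ≠ 1 → y ^ r = 1 → Commute x y → ∃ n : ℕ, y = x ^ n
  /-- inverted elements of order `r` are without fixed points -/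
  free : ∀ y, y ^ r = 1 → t * y * t = y⁻¹ → ∀ i, y ∈ W i → y = 1
  /-- two involutions with different points lie in one line group -/
  line : ∀ y, Odd (orderOf y) → t * y * t = y⁻¹ → ∃ i, t ∈ L i ∧ y ∈ L i
  meet : ∀ i j u v, u * u = 1 → v * v = 1 → ¬ Commute u v → u ∈ L i → v ∈ L i → u ∈ L j → v ∈ L j → i = j
  inverter : ∀ i, π ∈ L i → ∃ u ∈ L i, u * u = 1 ∧ u * π * u = π⁻¹
  /-- no involution centralizes `π` -/
  no_invol : ∀ u, u * u = 1 → Commute u π → u = 1

namespace LineData

variable {L W : ι → Subgroup G} {t π : G} {i₀ : ι} {r : ℕ} (h : LineData L W t π i₀ r)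
include h

theorem order_π : orderOf π = r :=
  haveI := Fact.mk h.prime
  orderOf_eq_prime h.π_pow h.π_ne

theorem π_not_sq : π ≠ π⁻¹ := fun e => h.ne_two <| by
  have h2 : π ^ 2 = 1 := by rw [pow_two]; exact mul_eq_one_iff_eq_inv.2 e
  have := Nat.le_of_dvd (by norm_num) (h.order_π ▸ orderOf_dvd_of_pow_eq_one h2)
  have := h.prime.two_le
  omega

theorem inv_conj_pow {y : G} (hy : t * y * t = y⁻¹) (n : ℕ) : t * y ^ n * t = (y ^ n)⁻¹ := by
  rw [← inv_pow]
  induction n with
  | zero => rw [pow_zero, pow_zero, mul_one, h.t_sq]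
  | succ n ih =>
    rw [pow_succ, pow_succ, ← ih, ← hy]
    calc t * (y ^ n * y) * t = t * y ^ n * (t * t) * y * t := by rw [h.t_sq]; group
      _ = _ := by group

theorem inv_mul {y y' : G} (hy : t * y * t = y⁻¹) (hy' : t * y' * t = y'⁻¹) (hc : Commute y y') :
    t * (y * y') * t = (y * y')⁻¹ := by
  rw [show (y * y')⁻¹ = y⁻¹ * y'⁻¹ by rw [hc.eq, mul_inv_rev], ← hy, ← hy']
  calc t * (y * y') * t = t * y * (t * t) * y' * t := by rw [h.t_sq]; group
    _ = _ := by group

/-- A line group with `t` and `π` is that of the base line. -/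
theorem eq_base {i : ι} (ht : t ∈ L i) (hπ : π ∈ L i) : i = i₀ := by
  refine h.meet i i₀ t (t * π) h.t_sq ?_ ?_ ht (mul_mem ht hπ) h.t_mem (mul_mem h.t_mem h.π_mem)
  · rw [← mul_assoc, h.π_inv, inv_mul_cancel]
  · intro hc
    have e : π = t * π * t :=
      calc π = t * (t * π) := by rw [← mul_assoc, h.t_sq, one_mul]
        _ = t * π * t := hc.eq
    exact h.π_not_sq (e.trans h.π_inv)

variable [Finite G]

/-- What centralizes `π` and is inverted by `t` lies in the base line group. -/
theorem mem_base {a : G} (ha : t * a * t = a⁻¹) (hc : Commute a π) : a ∈ L i₀ := by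
  haveI := Fact.mk h.prime
  suffices key : ∀ (n : ℕ) (a : G), orderOf a = n → t * a * t = a⁻¹ → Commute a π → a ∈ L i₀ from
    key _ a rfl ha hc
  intro n
  induction n using Nat.strong_induction_on with
  | _ n ih =>
    intro a hn ha hc
    have hodd : Odd n := by
      by_contra he
      rw [Nat.not_odd_iff_even] at he
      obtain ⟨m, hm⟩ := he
      have hpos : 0 < n := hn ▸ orderOf_pos a
      have h1 : a ^ m = 1 := h.no_invol _ (by rw [← pow_add, ← hm, ← hn, pow_orderOf_eq_one]) (hc.pow_left m)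
      have := Nat.le_of_dvd (by omega) (hn ▸ orderOf_dvd_of_pow_eq_one h1)
      omega
    by_cases hr : r ∣ n
    · obtain ⟨m, hm⟩ := hr
      -- split off the powers
      have hmpos : 0 < m := Nat.pos_of_ne_zero fun e => by
        rw [e, mul_zero, ← hn] at hm
        exact (orderOf_pos a).ne' hm
      have hlt : m < n := by
        rw [hm]; exact lt_mul_of_one_lt_left hmpos h.prime.one_lt
      have hord : orderOf (a ^ r) = m := by
        rw [orderOf_pow' a h.prime.ne_zero, hn, Nat.gcd_eq_right (hm ▸ dvd_mul_right r m), hm,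
          Nat.mul_div_cancel_left _ h.prime.pos]
      have har : a ^ r ∈ L i₀ := ih m hlt _ hord (h.inv_conj_pow ha r) (hc.pow_left r)
      by_cases h1 : m = 1
      · -- `a` and `π` generate an elementary group fixing a line
        have har1 : a ^ r = 1 := by rw [← pow_orderOf_eq_one (a ^ r), hord, h1, pow_one]
        let B : Subgroup G :=
          { carrier := {g | ∃ k l : ℕ, g = π ^ k * a ^ l}
            one_mem' := ⟨0, 0, by simp⟩
            mul_mem' := by
              rintro _ _ ⟨k, l, rfl⟩ ⟨k', l', rfl⟩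
              refine ⟨k + k', l + l', ?_⟩
              rw [pow_add, pow_add, mul_assoc, ← mul_assoc (a ^ l), (hc.pow_pow l k').eq]
              group
            inv_mem' := by
              rintro _ ⟨k, l, rfl⟩
              refine ⟨k * (r - 1), l * (r - 1), ?_⟩
              refine inv_eq_of_mul_eq_one_right ?_
              rw [mul_assoc, ← mul_assoc (a ^ l), (hc.pow_pow l (k * (r - 1))).eq, mul_assoc, ← pow_add,
                ← mul_assoc, ← pow_add]
              have e : ∀ k : ℕ, k + k * (r - 1) = r * k := fun k => by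
                obtain ⟨j, hj⟩ := Nat.exists_eq_add_of_le h.prime.one_le
                rw [hj, Nat.add_sub_cancel_left]; ring
              rw [e, e, pow_mul, pow_mul, h.π_pow, har1, one_pow, one_pow, one_mul] }
        have hB : IsPGroup r B := by
          rintro ⟨_, k, l, rfl⟩
          refine ⟨1, Subtype.ext ?_⟩
          show (π ^ k * a ^ l) ^ r ^ 1 = 1
          rw [pow_one, ((hc.symm).pow_pow k l).mul_pow, ← pow_mul, ← pow_mul, mul_comm k, mul_comm l, pow_mul,
            pow_mul, h.π_pow, har1, one_pow, one_pow, one_mul]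
        obtain ⟨i, hi⟩ := hB.nonempty_fixed_point_of_prime_not_dvd_card ι h.count_zero
        obtain ⟨l₁, hl₁, w₁, hw₁, e₁⟩ := h.split i π (hi ⟨π, 1, 0, by simp⟩) h.π_pow
        obtain ⟨l₂, hl₂, w₂, hw₂, e₂⟩ := h.split i a (hi ⟨a, 0, 1, by simp⟩) har1
        have hpow : ∀ l w g, l ∈ L i → w ∈ W i → g = l * w → g ^ r = 1 → l ^ r = 1 := by
          intro l w g hl hw e hg
          refine h.disj i _ (pow_mem hl r) ?_
          have e' : l ^ r * w ^ r = 1 := by rw [← (h.comm i l hl w hw).mul_pow, ← e, hg]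
          rw [eq_inv_of_mul_eq_one_left e']
          exact inv_mem (pow_mem hw r)
        have hl₁ne : l₁ ≠ 1 := fun e => h.π_ne (h.free π h.π_pow h.π_inv i (by rw [e₁, e, one_mul]; exact hw₁))
        have hcl : Commute l₁ l₂ := by
          have e' : (l₁ * l₂) * (w₁ * w₂) = (l₂ * l₁) * (w₂ * w₁) := by
            calc (l₁ * l₂) * (w₁ * w₂) = l₁ * (l₂ * w₁) * w₂ := by group
              _ = π * a := by rw [(h.comm i l₂ hl₂ w₁ hw₁).eq, e₁, e₂]; group
              _ = a * π := hc.symm.eq
              _ = l₂ * (w₂ * l₁) * w₁ := by rw [e₁, e₂]; group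
              _ = _ := by rw [← (h.comm i l₁ hl₁ w₂ hw₂).eq]; group
          have h2 : (l₂ * l₁)⁻¹ * (l₁ * l₂) = (w₂ * w₁) * (w₁ * w₂)⁻¹ := by
            rw [eq_mul_inv_iff_mul_eq, mul_assoc, e', inv_mul_cancel_left]
          have h3 := h.disj i _ (mul_mem (inv_mem (mul_mem hl₂ hl₁)) (mul_mem hl₁ hl₂))
            (h2 ▸ mul_mem (mul_mem hw₂ hw₁) (inv_mem (mul_mem hw₁ hw₂)))
          exact (inv_mul_eq_one.1 h3).symm
        obtain ⟨k, hk⟩ := h.cyc i l₁ l₂ hl₁ hl₂ (hpow _ _ _ hl₁ hw₁ e₁ h.π_pow) hl₁ne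
          (hpow _ _ _ hl₂ hw₂ e₂ har1) hcl
        have hinW : a * (π ^ k)⁻¹ ∈ W i := by
          rw [e₂, e₁, (h.comm i l₁ hl₁ w₁ hw₁).mul_pow, ← hk,
            show l₂ * w₂ * (l₂ * w₁ ^ k)⁻¹ = l₂ * (w₂ * (w₁ ^ k)⁻¹) * l₂⁻¹ by group,
            (h.comm i l₂ hl₂ _ (mul_mem hw₂ (inv_mem (pow_mem hw₁ k)))).eq, mul_inv_cancel_right]
          exact mul_mem hw₂ (inv_mem (pow_mem hw₁ k))
        have hck : Commute a (π ^ k)⁻¹ := (hc.pow_right k).inv_right
        have hy1 : (a * (π ^ k)⁻¹) ^ r = 1 := by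
          rw [hck.mul_pow, har1, one_mul, inv_pow, ← pow_mul, mul_comm, pow_mul, h.π_pow, one_pow, inv_one]
        have hy2 : t * (a * (π ^ k)⁻¹) * t = (a * (π ^ k)⁻¹)⁻¹ := by
          refine h.inv_mul ha ?_ hck
          rw [inv_inv]
          have := h.inv_conj_pow h.π_inv k
          calc t * (π ^ k)⁻¹ * t = (t * π ^ k * t)⁻¹ := by
                simp [mul_assoc, inv_eq_of_mul_eq_one_right h.t_sq]
            _ = π ^ k := by rw [this, inv_inv]
        rw [mul_inv_eq_one.1 (h.free _ hy1 hy2 i hinW)]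
        exact pow_mem h.π_mem k
      · -- `π` is a power of `a`
        obtain ⟨j, htj, haj⟩ := h.line a (hn ▸ hodd) ha
        obtain ⟨p, hp, hpm⟩ := Nat.exists_prime_and_dvd h1
        by_cases hpr : r ∣ m
        · obtain ⟨m', hm'⟩ := hpr
          have hc1 : a ^ (r * m') ≠ 1 := fun e => by
            have := Nat.le_of_dvd (by rw [hm'] at hmpos; exact hmpos) (hn ▸ orderOf_dvd_of_pow_eq_one e)
            rw [← hm'] at this
            omega
          have hcr : (a ^ (r * m')) ^ r = 1 := by
            rw [← pow_mul, ← hm', mul_comm, ← hm, ← hn, pow_orderOf_eq_one]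
          obtain ⟨k, hk⟩ := h.cyc i₀ (a ^ (r * m')) π (by rw [pow_mul]; exact pow_mem har m') h.π_mem hcr hc1
            h.π_pow (hc.pow_left _)
          have hπj : π ∈ L j := hk ▸ pow_mem (pow_mem haj _) k
          exact h.eq_base htj hπj ▸ haj
        · -- `a` is a product of powers in the line group
          have hcop : Nat.Coprime r m := (h.prime.coprime_iff_not_dvd).2 hpr
          have hx : a ^ m ∈ L i₀ := by
            refine ih r (by rw [hm]; exact lt_mul_of_one_lt_right h.prime.pos (by omega)) _ ?_ (h.inv_conj_pow ha m)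
              (hc.pow_left m)
            rw [orderOf_pow' a hmpos.ne', hn, Nat.gcd_eq_right (hm ▸ dvd_mul_left m r), hm,
              Nat.mul_div_cancel _ hmpos]
          have e := Nat.gcd_eq_gcd_ab r m
          rw [hcop.gcd_eq_one] at e
          have : a = (a ^ r) ^ Nat.gcdA r m * (a ^ m) ^ Nat.gcdB r m := by
            rw [← zpow_natCast a r, ← zpow_natCast a m, ← zpow_mul, ← zpow_mul, ← zpow_add, ← e,
              Nat.cast_one, zpow_one]
          rw [this]
          exact mul_mem (zpow_mem har _) (zpow_mem hx _)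
    · -- `π` is a power of `π a`
      have hy : t * (π * a) * t = (π * a)⁻¹ := h.inv_mul h.π_inv ha hc.symm
      have hyo : orderOf (π * a) = r * n := by
        rw [hc.symm.orderOf_mul_eq_mul_orderOf_of_coprime (by rw [h.order_π, hn]; exact (h.prime.coprime_iff_not_dvd).2 hr),
          h.order_π, hn]
      obtain ⟨j, htj, hyj⟩ := h.line (π * a) (hyo ▸ (h.prime.odd_of_ne_two h.ne_two).mul hodd) hy
      obtain ⟨c, -, hc'⟩ := Nat.exists_mul_mod_eq_one_of_coprime (n := n) (k := r)
        ((h.prime.coprime_iff_not_dvd).2 hr).symm h.prime.one_lt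
      have hπj : π ∈ L j := by
        have e : π = (π * a) ^ (n * c) := by
          rw [hc.symm.mul_pow, pow_mul a, ← hn, pow_orderOf_eq_one, one_pow, mul_one, hn,
            ← Nat.div_add_mod (n * c) r, hc', pow_succ, pow_mul, h.π_pow, one_pow, one_mul]
        rw [e]; exact pow_mem hyj _
      obtain rfl := h.eq_base htj hπj
      simpa using mul_mem (inv_mem hπj) hyj

/-- `π` lies in no other line group. -/
theorem eq_of_mem {i : ι} (hi : π ∈ L i) : i = i₀ := by
  obtain ⟨u, hu, hu2, huπ⟩ := h.inverter i hi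
  have hut : u⁻¹ = u := inv_eq_of_mul_eq_one_right hu2
  have htt : t⁻¹ = t := inv_eq_of_mul_eq_one_right h.t_sq
  have ha : t * (t * u) * t = (t * u)⁻¹ := by
    rw [mul_inv_rev, hut, htt, ← mul_assoc, h.t_sq, one_mul]
  have hc : Commute (t * u) π := by
    show t * u * π = π * (t * u)
    calc t * u * π = t * (u * π * u) * t * (t * u) := by
          simp only [mul_assoc]
          rw [← mul_assoc t t, h.t_sq, one_mul, hu2, mul_one]
      _ = π * (t * u) := by
          rw [huπ, show t * π⁻¹ * t = π from ?_]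
          rw [← h.π_inv]
          simp only [mul_assoc]
          rw [h.t_sq, mul_one, ← mul_assoc, h.t_sq, one_mul]
  have hu0 : u ∈ L i₀ := by
    have := mul_mem h.t_mem (h.mem_base ha hc)
    rwa [← mul_assoc, h.t_sq, one_mul] at this
  refine h.meet i i₀ u (u * π) hu2 ?_ ?_ hu (mul_mem hu hi) hu0 (mul_mem hu0 h.π_mem)
  · rw [← mul_assoc, huπ, inv_mul_cancel]
  · intro hcu
    have e : π = u * π * u :=
      calc π = u * (u * π) := by rw [← mul_assoc, hu2, one_mul]
        _ = u * π * u := hcu.eq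
    exact h.π_not_sq (e.trans huπ)

/-- **An element of order `r` fixing the base line pointwise.** -/
theorem exists_mem_W [Finite ι] : ∃ w ∈ W i₀, orderOf w = r := by
  haveI := Fact.mk h.prime
  have hp : IsPGroup r (Subgroup.zpowers π) :=
    IsPGroup.of_card (n := 1) (by rw [Nat.card_zpowers, h.order_π, pow_one])
  have hmod := hp.card_modEq_card_fixedPoints ι
  obtain ⟨i, hi, hne⟩ : ∃ i, (π • i = i) ∧ i ≠ i₀ := by
    by_contra hno
    push Not at hno
    haveI : Subsingleton (MulAction.fixedPoints (Subgroup.zpowers π) ι) := ⟨fun a b => Subtype.ext <| by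
      rw [hno a.1 (a.2 ⟨π, Subgroup.mem_zpowers π⟩), hno b.1 (b.2 ⟨π, Subgroup.mem_zpowers π⟩)]⟩
    have hle : Nat.card (MulAction.fixedPoints (Subgroup.zpowers π) ι) ≤ 1 :=
      Finite.card_le_one_iff_subsingleton.2 inferInstance
    have h1 : Nat.card ι % r = Nat.card (MulAction.fixedPoints (Subgroup.zpowers π) ι) % r := hmod
    interval_cases hk : Nat.card (MulAction.fixedPoints (Subgroup.zpowers π) ι)
    · exact h.count_zero (Nat.dvd_of_mod_eq_zero (by simpa using h1))
    · exact h.count_one (by rw [h1, Nat.mod_eq_of_lt h.prime.one_lt])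
  obtain ⟨l, hl, w, hw, e⟩ := h.split i π hi h.π_pow
  have hw1 : w ≠ 1 := fun e1 => hne (h.eq_of_mem (by rw [e, e1, mul_one]; exact hl))
  have hwr : w ^ r = 1 := by
    have e' : l ^ r * w ^ r = 1 := by rw [← (h.comm i l hl w hw).mul_pow, ← e, h.π_pow]
    refine h.disj i _ ?_ (pow_mem hw r)
    rw [eq_inv_of_mul_eq_one_right e']
    exact inv_mem (pow_mem hl r)
  have hd : r ∣ Nat.card (W i₀) := by
    rw [← h.card_W i, ← orderOf_eq_prime hwr hw1, ← Subgroup.orderOf_mk w hw]
    exact orderOf_dvd_natCard _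
  obtain ⟨v, hv⟩ := exists_prime_orderOf_dvd_card' r hd
  exact ⟨v, v.2, by rw [Subgroup.orderOf_coe, hv]⟩

end LineData

end CfsgLib.Bender.Suzuki
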